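import Cfsg.Agent.FischerTypes.Fibres24

/-!
# The even part of the first class is PΩ⁺(8,3) modulo centres
-/

set_option autoImplicit false
set_option maxRecDepth 100000

namespace Cfsg.Agent.FischerTypes.F24

open Cfsg.Agent.CosetCert

/-- The orthogonal omega group. -/
noncomputable abbrev Om : Subgroup O8 := Cfsg.Omega (ZMod 3) ⇑plusEight.Q

theorem reached1 : ∀ i : Fin 1080,
    Reached (f₁ tau Pf 1080) (f₂ plusEight Vf 1080) {j : Fin 1080 | (j : ℕ) < 9} i :=
  reached verified tau hconj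

/-- The pairs of even products. -/
noncomputable def P2 : Subgroup (G × O8) :=
  Subgroup.closure {p | ∃ j : Fin 1080, (j : ℕ) < 9 ∧
    p = both (f₁ tau Pf 1080) (f₂ plusEight Vf 1080) j * both (f₁ tau Pf 1080) (f₂ plusEight Vf 1080) 0}

theorem alike_P2 {p : G × O8} (hp : p ∈ P2) : Alike (f₁ tau Pf 1080) (f₂ plusEight Vf 1080) p := by
  have hnode : ∀ j : Fin 1080, (j : ℕ) < 9 →
      both (f₁ tau Pf 1080) (f₂ plusEight Vf 1080) j ∈
        Subgroup.closure (both (f₁ tau Pf 1080) (f₂ plusEight Vf 1080) '' {j : Fin 1080 | (j : ℕ) < 9}) :=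
    fun j hj => Subgroup.subset_closure ⟨j, hj, rfl⟩
  refine alike_of_closure (f₁_injective verified tau fun a ha b hb => tau_inj ha hb)
    (S := both (f₁ tau Pf 1080) (f₂ plusEight Vf 1080) '' {j : Fin 1080 | (j : ℕ) < 9}) ?_ ?_
  · rintro _ ⟨j, hj, rfl⟩; exact alike verified tau hconj j hj
  · induction hp using Subgroup.closure_induction with
    | mem p hp => obtain ⟨j, hj, rfl⟩ := hp; exact mul_mem (hnode j hj) (hnode 0 (by norm_num))
    | one => exact one_mem _
    | mul a b _ _ ha hb => exact mul_mem ha hb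
    | inv a _ ha => exact inv_mem ha

theorem ge_node {j : Nat} (hj : j < 9) : tau (Pf j) = ge j := by
  have e := ge_eq j (by omega)
  rw [gi, if_neg (by omega)] at e
  exact e.symm

theorem map_fst_P2 : P2.map (MonoidHom.fst G O8) = Npre := by
  rw [P2, MonoidHom.map_closure, Npre]
  congr 1
  ext g
  constructor
  · rintro ⟨_, ⟨j, hj, rfl⟩, rfl⟩
    refine ⟨j, hj, ?_⟩
    show tau (Pf j) * tau (Pf 0) = _
    rw [ge_node hj, ge_node (by norm_num)]
  · rintro ⟨j, hj, rfl⟩
    refine ⟨_, ⟨⟨j, by omega⟩, hj, rfl⟩, ?_⟩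
    show tau (Pf j) * tau (Pf 0) = _
    rw [ge_node hj, ge_node (by norm_num)]

theorem map_snd_P2 : P2.map (MonoidHom.snd G O8) = R0 := by
  rw [P2, MonoidHom.map_closure, R0]
  congr 1
  ext g
  constructor
  · rintro ⟨_, ⟨j, hj, rfl⟩, rfl⟩
    exact ⟨j, hj, rfl⟩
  · rintro ⟨j, hj, rfl⟩
    exact ⟨_, ⟨⟨j, by omega⟩, hj, rfl⟩, rfl⟩

/-- Fixing the first class, an even element is central. -/
theorem central_of_first {z : G} (hz : z ∈ Npre) (h : ∀ i < 1080, Commute z (tau (Pf i))) :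
    ∀ j < 10, Commute z (ge j) := by
  intro j hj
  by_cases h9 : j < 9
  · rw [← ge_node h9]; exact h j (by omega)
  have hj9 : j = 9 := by omega
  subst hj9
  have hN : ∀ n ∈ Npre, Commute z n := by
    intro n hn
    induction hn using Subgroup.closure_induction with
    | mem n hn =>
      obtain ⟨m, hm, rfl⟩ := hn
      rw [← ge_node hm, ← ge_node (show 0 < 9 by norm_num)]
      exact (h m (by omega)).mul_right (h 0 (by norm_num))
    | one => exact Commute.one_right _
    | mul a b _ _ ha hb => exact ha.mul_right hb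
    | inv a _ ha => exact ha.inv_right
  rw [ge_eq 9 (by norm_num), gi, if_pos rfl]
  obtain ⟨k, hk, e1, e2⟩ := moves_Γ (lift_Npre hz) 1080 (by norm_num)
  simp only [Equiv.Perm.one_apply] at e1 e2
  by_cases hk0 : k = 1080
  · rw [hk0] at e1; exact eq_mul_of_mul_inv_eq e1
  exfalso
  have hk1 : ¬ k < 1080 := fun hlt => by
    have h0 := (col_zero_iff hk).2 hlt
    rw [e2, col_zero_iff (by norm_num)] at h0
    omega
  have hst := (allFrom_iff _ _ _).1 stabs k (by omega) (by omega)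
  simp only [okStab, force_eq, List.any_eq_true] at hst
  obtain ⟨w, hw, hne⟩ := hst
  have htest := List.all_eq_true.1 tests_ok w hw
  simp only [Bool.and_eq_true] at htest
  obtain ⟨hl, hmem⟩ := evenB_spec htest.1
  have hfixe := (commute_gw hl (P_lt (by norm_num : 1080 < 3240))).2 (Nat.eq_of_beq_eq_true htest.2)
  have hfixk : Commute (gw w) (tau (Pf k)) := by
    rw [← e1]
    have hzt := hN _ hmem
    exact ((hzt.symm.mul_right hfixe).mul_right hzt.symm.inv_right)
  have := (commute_gw hl (P_lt hk)).1 hfixk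
  rw [Bool.not_eq_true'] at hne
  rw [show fw w (Pf k) = Pf k from this, Nat.beq_refl] at hne
  exact absurd hne (by decide)

theorem socle_iso : Nonempty (N1 ≃* Cfsg.POmega (ZMod 3) (Cfsg.quadFormPlus 4 (ZMod 3))) := by
  obtain ⟨q⟩ := nonempty_pomega
  suffices h : Nonempty (N1 ≃* Cfsg.POmega (ZMod 3) ⇑plusEight.Q) from h.map fun e => e.trans q
  let p₁ : P2 →* LS := ((MonoidHom.fst G O8).comp P2.subtype).codRestrict _ fun x =>
    Npre_le (map_fst_P2 ▸ ⟨x.1, x.2, rfl⟩)
  let φ : P2 →* N1 := ((QuotientGroup.mk' (Subgroup.center LS)).comp p₁).codRestrict _ fun x =>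
    ⟨p₁ x, Subgroup.mem_subgroupOf.2 (map_fst_P2 ▸ ⟨x.1, x.2, rfl⟩), rfl⟩
  let p₂ : P2 →* Om := ((MonoidHom.snd G O8).comp P2.subtype).codRestrict _ fun x =>
    R0_le (map_snd_P2 ▸ ⟨x.1, x.2, rfl⟩)
  let ψ : P2 →* Cfsg.POmega (ZMod 3) ⇑plusEight.Q :=
    (QuotientGroup.mk' (Subgroup.center Om)).comp p₂
  have hφ : Function.Surjective φ := by
    rintro ⟨_, ⟨⟨n, hn⟩, hnN, rfl⟩⟩
    have hnN' : n ∈ Npre := Subgroup.mem_subgroupOf.1 hnN
    rw [← map_fst_P2] at hnN'
    obtain ⟨x, hx, rfl⟩ := hnN'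
    exact ⟨⟨x, hx⟩, rfl⟩
  have hfix : ∀ x : P2, ∀ i : Fin 1080, Commute (x : G × O8).1 (tau (Pf i)) ↔ Commute (x : G × O8).2 (r i) :=
    fun x i => fix_iff (f₁_injective verified tau fun a ha b hb => tau_inj ha hb) (f₂_injective verified)
      (alike_P2 x.2) i
  have hψ : Function.Surjective ψ := by
    rw [← MonoidHom.range_eq_top]
    have hr : ψ.range = (R0.subgroupOf Om).map (QuotientGroup.mk' (Subgroup.center Om)) := by
      ext y
      constructor
      · rintro ⟨x, rfl⟩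
        exact ⟨p₂ x, Subgroup.mem_subgroupOf.2 (map_snd_P2 ▸ ⟨x.1, x.2, rfl⟩), rfl⟩
      · rintro ⟨⟨g, hg⟩, hgR, rfl⟩
        have hgR' : g ∈ R0 := Subgroup.mem_subgroupOf.1 hgR
        rw [← map_snd_P2] at hgR'
        obtain ⟨x, hx, rfl⟩ := hgR'
        exact ⟨⟨x, hx⟩, rfl⟩
    have := R0_normal
    have := simple
    have hn : ψ.range.Normal := hr ▸ (inferInstance : (R0.subgroupOf Om).Normal).map _
      (QuotientGroup.mk'_surjective _)
    refine (Subgroup.Normal.eq_bot_or_eq_top hn).resolve_left fun hbot => ?_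
    let j1 : Fin 1080 := ⟨1, by norm_num⟩
    let x : P2 := ⟨both (f₁ tau Pf 1080) (f₂ plusEight Vf 1080) j1 *
      both (f₁ tau Pf 1080) (f₂ plusEight Vf 1080) 0,
      Subgroup.subset_closure ⟨j1, by show 1 < 9; norm_num, rfl⟩⟩
    have hx : ψ x = 1 := Subgroup.mem_bot.1 (hbot ▸ ⟨x, rfl⟩)
    have hc : p₂ x ∈ Subgroup.center Om := (QuotientGroup.eq_one_iff _).1 hx
    have hm := moved_ok
    have hmlt := Nat.blt_eq.mp hm.1
    have hcom := (hfix x ⟨moved, hmlt⟩).2 (center_commute hc (r moved))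
    simp only [x, j1, both, f₁, Prod.mk_mul_mk, Fin.val_zero] at hcom
    have hlt := P_lt (hmlt.trans (by norm_num) : moved < 3240)
    have e0 := hconj 0 (by norm_num) _ hlt
    have hlt' : mv 0 (Pf moved) < 306936 := fwd_lt (W_lt (j := 0) (by norm_num)) hlt
    have e1 := hconj 1 (by norm_num) _ hlt'
    have e : tau (mv 1 (mv 0 (Pf moved))) = tau (Pf moved) := by
      rw [← e1, ← e0]
      calc tau (Pf 1) * (tau (Pf 0) * tau (Pf moved) * (tau (Pf 0))⁻¹) * (tau (Pf 1))⁻¹
          = (tau (Pf 1) * tau (Pf 0)) * tau (Pf moved) * (tau (Pf 1) * tau (Pf 0))⁻¹ := by group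
        _ = tau (Pf moved) := by rw [hcom.eq, mul_inv_cancel_right]
    have h2 : mv 1 (mv 0 (Pf moved)) = Pf moved :=
      tau_inj (fwd_lt (W_lt (j := 1) (by norm_num)) hlt') hlt e
    have hm2 := hm.2
    rw [h2, Nat.beq_refl] at hm2
    exact absurd hm2 (by decide)
  refine nonempty_equiv_of_ker φ ψ hφ hψ (le_antisymm ?_ ?_)
  · intro x hx
    rw [MonoidHom.mem_ker] at hx ⊢
    have hz : p₁ x ∈ Subgroup.center LS := (QuotientGroup.eq_one_iff _).1 (congrArg Subtype.val hx)
    have hr : ∀ i, i < 1080 → Commute (x : G × O8).2 (r i) := fun i hi =>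
      (hfix x ⟨i, hi⟩).1 (congrArg Subtype.val (Subgroup.mem_center_iff.1 hz ⟨tau (Pf i), tau_mem_LS (by omega)⟩)).symm
    have hR : ∀ g ∈ R0, Commute (x : G × O8).2 g := by
      intro g hg
      induction hg using Subgroup.closure_induction with
      | mem g hg => obtain ⟨j, hj, rfl⟩ := hg; exact (hr j (by omega)).mul_right (hr 0 (by norm_num))
      | one => exact Commute.one_right _
      | mul a b _ _ ha hb => exact ha.mul_right hb
      | inv a _ ha => exact ha.inv_right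
    apply (QuotientGroup.eq_one_iff _).2
    rw [Subgroup.mem_center_iff]
    intro y
    obtain ⟨u, hu⟩ := hψ (QuotientGroup.mk y)
    have hc : (p₂ u)⁻¹ * y ∈ Subgroup.center Om := QuotientGroup.eq.1 hu
    refine Subtype.ext ?_
    show (y : O8) * (x : G × O8).2 = (x : G × O8).2 * (y : O8)
    have h1 : Commute (x : G × O8).2 ((u : G × O8).2) := hR _ (map_snd_P2 ▸ ⟨u.1, u.2, rfl⟩)
    have h2 : Commute (x : G × O8).2 ((u : G × O8).2⁻¹ * (y : O8)) := (center_commute hc _).symm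
    have h3 := h1.mul_right h2
    rw [mul_inv_cancel_left] at h3
    exact h3.eq.symm
  · intro x hx
    rw [MonoidHom.mem_ker] at hx ⊢
    have hz : p₂ x ∈ Subgroup.center Om := (QuotientGroup.eq_one_iff _).1 hx
    have hN : (x : G × O8).1 ∈ Npre := map_fst_P2 ▸ ⟨x.1, x.2, rfl⟩
    have hF : ∀ i, i < 1080 → Commute (x : G × O8).1 (tau (Pf i)) := fun i hi =>
      (hfix x ⟨i, hi⟩).2 (center_commute hz (r i))
    refine Subtype.ext ((QuotientGroup.eq_one_iff _).2 ?_)
    exact (central_iff (Npre_le hN)).2 (central_of_first hN hF)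

theorem common_part : ∃ (N : Subgroup Q0) (_ : N.Normal),
    Nonempty (N ≃* Cfsg.POmega (ZMod 3) (Cfsg.quadFormPlus 4 (ZMod 3))) ∧
      Nonempty (Q0 ⧸ N ≃* Equiv.Perm (Fin 3)) :=
  ⟨N1, N1_normal, socle_iso, quotient_iso N1_normal⟩

end Cfsg.Agent.FischerTypes.F24
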