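import Cfsg.Agent.FischerTypes.M23
import Cfsg.Agent.FischerTypes.Socle24
import Cfsg.Agent.Fi24Out.Pairs

/-!
# Fi24 with its transpositions is of type M(24)
-/

set_option autoImplicit false
set_option maxRecDepth 100000

namespace Cfsg.Agent.FischerTypes.F24

open Cfsg.Agent.CosetCert Cfsg.Agent.Fi24Out

/-- The class. -/
abbrev D : Set G := Fi24.D

/-- The partners of `L`. -/
abbrev P0 : Set G := {y : G | y ∈ D ∧ y ≠ Fi24.L ∧ Commute Fi24.L y}

theorem pt0_lt : Fi23Out.pt 0 < 31671 := Fi23Out.pt_lt 0 (by norm_num)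

theorem mem_partners (y : G) : y ∈ P0 ↔ ∃ g ∈ Fi24.H, g * nd 0 * g⁻¹ = y := by
  constructor
  · rintro ⟨hy, hne, hc⟩
    obtain ⟨c, hclt, rfl⟩ := exists_T hy hc.symm hne
    obtain ⟨u, hu⟩ := exists_pt c hclt
    refine ⟨Fi24.ξ u, (Fi24.ξ_range ⟨u, rfl⟩).1, ?_⟩
    rw [← T_pt (by norm_num), conj_T u pt0_lt, hu]
  · rintro ⟨g, hg, rfl⟩
    have hgL : g * Fi24.L = Fi24.L * g := Fi24.L_comm hg
    refine ⟨D_conj g (nd_mem 0), fun e => ?_, ?_⟩
    · apply T_ne_L pt0_lt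
      rw [T_pt (by norm_num)]
      calc nd 0 = g⁻¹ * (g * nd 0 * g⁻¹) * g := by group
        _ = g⁻¹ * (Fi24.L * g) := by rw [e, mul_assoc]
        _ = Fi24.L := by rw [← hgL]; group
    · have := (Commute.conj_iff g).2 (nd_comm_L 0).symm
      rwa [hgL, mul_inv_cancel_right] at this

theorem gen_partner {x : Cfsg.Spor.Fi24.Gen} (hk : x ≠ .k) (hl : x ≠ .l) : Fi24.gen x ∈ P0 := by
  obtain ⟨y, rfl⟩ : ∃ y, Fi24.node y = x := by
    cases x <;> first | exact absurd rfl hk | exact absurd rfl hl | exact ⟨.a, rfl⟩ | exact ⟨.b, rfl⟩ |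
      exact ⟨.c, rfl⟩ | exact ⟨.d, rfl⟩ | exact ⟨.e, rfl⟩ | exact ⟨.f, rfl⟩ | exact ⟨.g, rfl⟩ |
      exact ⟨.j, rfl⟩ | exact ⟨.h, rfl⟩ | exact ⟨.i, rfl⟩
  obtain ⟨n, hn, rfl⟩ := Fi23Out.letter_surj y
  have h := T_mem (Fi23Out.pt_lt n hn)
  have h2 := T_comm_L (Fi23Out.pt n)
  rw [T_pt hn] at h h2
  exact ⟨h, nd_ne_L n hn, h2.symm⟩

theorem closure_partners : Subgroup.closure P0 = Fi24.H := by
  refine le_antisymm ?_ ?_
  · rw [Subgroup.closure_le]
    intro y hy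
    rw [← Fi24.centralizer_L]
    exact Subgroup.mem_centralizer_singleton_iff.2 hy.2.2.symm.eq
  · intro h hh
    refine Fi24.H_induction (p := fun h => h ∈ Subgroup.closure P0) (fun x hx => ?_) (one_mem _)
      (fun u v hu hv => mul_mem hu hv) (fun u hu => inv_mem hu) hh
    by_cases hl : x = .l
    · subst hl
      have hg : ∀ z : Cfsg.Spor.Fi24.Gen, z ≠ .k → z ≠ .l → Fi24.gen z ∈ Subgroup.closure P0 :=
        fun z h1 h2 => Subgroup.subset_closure (gen_partner h1 h2)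
      show Fi24.L ∈ Subgroup.closure P0
      rw [Fi24.L_eq]
      exact pow_mem (mul_mem (mul_mem (mul_mem (mul_mem (mul_mem (mul_mem (hg .a (by decide) (by decide))
        (hg .b (by decide) (by decide))) (hg .c (by decide) (by decide))) (hg .d (by decide) (by decide)))
        (hg .e (by decide) (by decide))) (hg .f (by decide) (by decide))) (hg .h (by decide) (by decide))) 9
    · exact Subgroup.subset_closure (gen_partner hx hl)

theorem L_central : (⟨Fi24.L, Fi24.L_mem⟩ : Fi24.H) ∈ Subgroup.center Fi24.H :=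
  Subgroup.mem_center_iff.2 fun h => Subtype.ext (Fi24.L_comm h.2)

theorem lower_part : Cfsg.IsOfTypeM23
    (↥(Subgroup.closure P0) ⧸ Subgroup.center ↥(Subgroup.closure P0))
    ((QuotientGroup.mk : ↥(Subgroup.closure P0) → _) '' {x : ↥(Subgroup.closure P0) | (x : G) ∈ P0}) := by
  let ι : Fi23Out.G →* Fi24.H := MonoidHom.codRestrict Fi24.ξ _ fun y => (Fi24.ξ_range ⟨y, rfl⟩).1
  let ψ : Fi23Out.G →* Fi24.H ⧸ Subgroup.center Fi24.H := (QuotientGroup.mk' _).comp ι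
  have hsurj : Function.Surjective ψ := by
    intro q
    obtain ⟨⟨h, hh⟩, rfl⟩ := QuotientGroup.mk'_surjective _ q
    rcases Fi24.H_split hh with ⟨y, hy⟩ | ⟨y, hy⟩
    · exact ⟨y, congrArg (QuotientGroup.mk' _) (Subtype.ext hy)⟩
    · refine ⟨y, QuotientGroup.eq.2 ?_⟩
      have : (ι y)⁻¹ * ⟨h, hh⟩ = ⟨Fi24.L, Fi24.L_mem⟩ := Subtype.ext (by
        show (Fi24.ξ y)⁻¹ * h = Fi24.L
        rw [hy, mul_inv_rev, Fi24.gen_inv, mul_assoc, inv_mul_cancel, mul_one])
      rw [this]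
      exact L_central
  have hinj : Function.Injective ψ := by
    rw [← MonoidHom.ker_eq_bot_iff, eq_bot_iff]
    intro y hy
    have hc := Subgroup.mem_center_iff.1 ((QuotientGroup.eq_one_iff _).1 (MonoidHom.mem_ker.1 hy))
    rw [← F23.center_bot, Subgroup.mem_center_iff]
    intro g
    exact Fi24.ξ_injective (by rw [map_mul, map_mul]; exact congrArg Subtype.val (hc (ι g)))
  let e := MulEquiv.ofBijective ψ ⟨hinj, hsurj⟩
  obtain ⟨s, hs⟩ : ∃ s : Fi24.H, s = ⟨nd 0, Fi24.gen_mem (Fi24.node_ne _)⟩ := ⟨_, rfl⟩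
  have hb : e (Fi23Out.tau (Fi23Out.pt 0)) = QuotientGroup.mk s := by
    refine QuotientGroup.eq.2 ?_
    have : (ι (Fi23Out.tau (Fi23Out.pt 0)))⁻¹ * s = ⟨Fi24.L, Fi24.L_mem⟩ := by
      subst hs
      refine Subtype.ext ?_
      show (Fi24.ξ (Fi23Out.tau (Fi23Out.pt 0)))⁻¹ * nd 0 = Fi24.L
      rw [ξ_tau, T_pt (by norm_num), mul_inv_rev, Fi24.gen_inv, mul_assoc, inv_mul_cancel, mul_one]
    rw [this]
    exact L_central
  have hclass : conjugatesOf (Fi23Out.tau (Fi23Out.pt 0)) = F23.D :=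
    (IsConj.conjugatesOf_eq (F23.tau_mem pt0_lt)).symm
  have himg := image_of_class e hb (S := P0) (fun y => by
    rw [mem_partners y]
    subst hs
    exact Iff.rfl)
  rw [hclass] at himg
  have h23 := m23_transfer e F23.isM23
  rw [himg] at h23
  have aux : ∀ K : Subgroup G, K = Subgroup.closure P0 →
      Cfsg.IsOfTypeM23 (K ⧸ Subgroup.center K) ((QuotientGroup.mk : K → _) '' {x | (x : G) ∈ P0}) →
      Cfsg.IsOfTypeM23 (↥(Subgroup.closure P0) ⧸ Subgroup.center ↥(Subgroup.closure P0))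
        ((QuotientGroup.mk : ↥(Subgroup.closure P0) → _) '' {x : ↥(Subgroup.closure P0) | (x : G) ∈ P0}) := by
    rintro K rfl h; exact h
  exact aux _ closure_partners.symm h23

theorem not_commute : ¬ Commute Fi24.L (tau 3) := by
  rw [← gw_eleven, commute_gw (by simp) (by norm_num)]
  decide +kernel

theorem primitive : Cfsg.IsPrimitiveUnderConj D := by
  have hk : ¬ Commute Fi24.L (Fi24.gen .k) := fun h => Fi24.k_not_comm h.symm
  have ha := gen_partner (x := .a) (by decide) (by decide)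
  have hb := gen_partner (x := .b) (by decide) (by decide)
  have key : ∀ b : G, b ∈ D → b ≠ Fi24.L → ∃ g, Commute g Fi24.L ∧
      ((Commute Fi24.L b ∧ g * Fi24.gen .a * g⁻¹ = b) ∨ (¬ Commute Fi24.L b ∧ g * Fi24.gen .k * g⁻¹ = b)) := by
    intro b hb hne
    rcases Fi24.D_cases hb with h | ⟨h, hh, rfl⟩ | ⟨h, hh, rfl⟩
    · exact absurd h hne
    · refine ⟨h, Fi24.L_comm hh, Or.inl ⟨?_, rfl⟩⟩
      have := (Commute.conj_iff h).2 ha.2.2
      rwa [Fi24.L_comm hh, mul_inv_cancel_right] at this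
    · refine ⟨h, Fi24.L_comm hh, Or.inr ⟨fun hc => hk ?_, rfl⟩⟩
      rw [show Fi24.L = h * Fi24.L * h⁻¹ by rw [Fi24.L_comm hh, mul_inv_cancel_right]] at hc
      exact (Commute.conj_iff h).1 hc
  have key2 : ∀ {b b' : G}, b ∈ D → b' ∈ D → b ≠ Fi24.L → b' ≠ Fi24.L →
      (Commute Fi24.L b ↔ Commute Fi24.L b') → ∃ g, Commute g Fi24.L ∧ g * b * g⁻¹ = b' := by
    intro b b' hb hb' n n' hiff
    obtain ⟨g, hg, hgb⟩ := key b hb n
    obtain ⟨g', hg', hgb'⟩ := key b' hb' n'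
    refine ⟨g' * g⁻¹, hg'.mul_left hg.inv_left, ?_⟩
    rcases hgb with ⟨hc, e⟩ | ⟨hc, e⟩ <;> rcases hgb' with ⟨hc', e'⟩ | ⟨hc', e'⟩
    · rw [← e, ← e']; group
    · exact absurd (hiff.1 hc) hc'
    · exact absurd (hiff.2 hc') hc
    · rw [← e, ← e']; group
  have hak : ¬ Commute (Fi24.gen .a) (Fi24.gen .k) := by
    intro h
    have h2 := Fi24.conj_step (x := .a) (y := .k) (by decide)
    rw [h.eq, mul_inv_rev, Fi24.gen_inv, Fi24.gen_inv] at h2
    have : Fi24.gen .k = Fi24.gen .a := by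
      rw [h2]
      calc Fi24.gen .k * Fi24.gen .a * Fi24.gen .a * (Fi24.gen .a * Fi24.gen .k)
          = Fi24.gen .k * (Fi24.gen .a * Fi24.gen .a) * Fi24.gen .a * Fi24.gen .k := by
            simp only [mul_assoc]
        _ = Fi24.gen .k * Fi24.gen .a * Fi24.gen .k := by rw [Fi24.gen_sq, mul_one]
        _ = Fi24.gen .a * (Fi24.gen .k * Fi24.gen .k) := by rw [← h.eq, mul_assoc]
        _ = Fi24.gen .a := by rw [Fi24.gen_sq, mul_one]
    exact hk (this ▸ ha.2.2)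
  refine primitive_of_rank_three L_mem_D (fun d hd => Fi24.mem_D.1 hd) (fun g d hd => D_conj g hd)
    (fun b hb b' hb' n n' c c' => key2 hb hb' n n' (iff_of_true c c'))
    (fun b hb b' hb' c c' => key2 hb hb' (fun e => c (e ▸ Commute.refl _))
      (fun e => c' (e ▸ Commute.refl _)) (iff_of_false c c')) ?_ ?_
  · exact ⟨Fi24.gen .b, hb.1, Fi24.gen .k, k_mem_D, hb.2.1,
      fun e => hk (e ▸ hb.2.2), hb.2.2, gen_commute (by decide), hk⟩
  · exact ⟨Fi24.gen .k, k_mem_D, Fi24.gen .a, ha.1, hk, fun h => hak h.symm, ha.2.2, ha.2.1⟩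

theorem isM24 : Cfsg.IsOfTypeM24 G D :=
  ⟨center_bot, Fi24.L, L_mem_D, tau 3, tau_mem (by norm_num), not_commute, lower_part, common_part⟩

end Cfsg.Agent.FischerTypes.F24
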