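import Cfsg.Agent.FischerTypes.Checks
import Cfsg.Agent.FischerTypes.Data22
import Cfsg.Agent.CosetCert.Fi22U62.Defs

/-! Kernel checks of the subsystem of 126 transpositions in Fi22. -/

set_option Elab.async false
set_option maxRecDepth 100000
set_option autoImplicit false

namespace Cfsg.Agent.FischerTypes.F22

open Cfsg.Agent.CosetCert

/-- A listed element moves a point. -/
noncomputable def mv (j c : Nat) : Nat := Fi22U62.data.fwd (W.getD j []) c

/-- Other than two given points and commuting with both. -/
noncomputable def cond (c : Nat) : Bool :=
  gate (Nat.beq (Fi22U62.data.fwd [0] c) c) (gate (Nat.beq (Fi22U62.data.fwd [1] c) c)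
    (gate (!Nat.beq c 0) (!Nat.beq c 2)))

theorem scan : allFrom (okScan cond Pf srtf 126) 0 3510 = true := by decide +kernel

theorem conds : allFrom (okCond cond Pf 3510) 0 126 = true := by decide +kernel

theorem finds : allFrom (okFind Pf srtf 126) 0 126 = true := by decide +kernel

theorem reaches : allFrom (okReach Pf parf mv 7) 0 126 = true := by decide +kernel

theorem vecs : allFrom (okVec (squares 6).n (squares 6).qf Vf idxf) 0 126 = true := by decide +kernel

theorem steps :
    allFrom (okSteps (squares 6).n (squares 6).bil Pf Vf idxf mv 126 7) 0 126 = true := by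
  decide +kernel

theorem codes : allFrom (okCode (squares 6).n (squares 6).qf Vf idxf 126) 0 (3 ^ 6) = true := by
  decide +kernel

end Cfsg.Agent.FischerTypes.F22
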