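import Mathlib
import Cfsg.Prelude.Def_FischerSpaces
import Cfsg.Agent.Classical.QuadStd
import Cfsg.Agent.Classical.OrthMat

/-!
# Vectors over three elements by codes; their reflections
-/

set_option autoImplicit false

namespace Cfsg.Agent.FischerTypes

open QuadraticMap Matrix Cfsg.Agent.Classical.Quad

/-- A digit in base three. -/
def dig (c k : Nat) : Nat := c / 3 ^ k % 3

/-- The number with the given digits. -/
noncomputable def enc (n : Nat) (f : Nat → Nat) : Nat :=
  Nat.rec (motive := fun _ => (Nat → Nat) → Nat) (fun _ => 0)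
    (fun _ ih f => f 0 % 3 + 3 * ih fun k => f (k + 1)) n f

theorem dig_enc : ∀ (n k : Nat) (f : Nat → Nat), k < n → dig (enc n f) k = f k % 3
  | 0, k, _, h => absurd h (Nat.not_lt_zero k)
  | n + 1, 0, f, _ => by
    show (f 0 % 3 + 3 * enc n _) / 3 ^ 0 % 3 = _
    rw [pow_zero, Nat.div_one, Nat.add_mul_mod_self_left, Nat.mod_mod]
  | n + 1, k + 1, f, h => by
    show (f 0 % 3 + 3 * enc n _) / 3 ^ (k + 1) % 3 = _
    rw [pow_succ', ← Nat.div_div_eq_div_mul, Nat.add_mul_div_left _ _ (by norm_num : 0 < 3),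
      Nat.div_eq_of_lt (Nat.mod_lt _ (by norm_num)), Nat.zero_add]
    exact dig_enc n k _ (Nat.lt_of_succ_lt_succ h)

/-- The code of the negative. -/
noncomputable def negCode (n c : Nat) : Nat := enc n fun k => 2 * dig c k

/-- The code of `v + t • u`. -/
noncomputable def addMul (n v t u : Nat) : Nat := enc n fun k => dig v k + t * dig u k

/-- The dot product of two codes. -/
noncomputable def dot (f g : Nat → Nat) (n : Nat) : Nat :=
  Nat.rec 0 (fun k ih => ih + f k * g k) n

theorem dot_eq (f g : Nat → Nat) : ∀ n, dot f g n = ∑ k ∈ Finset.range n, f k * g k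
  | 0 => by simp [dot]
  | n + 1 => by rw [Finset.sum_range_succ, ← dot_eq f g n]; rfl

/-- An orthogonal space with its arithmetic of codes. -/
structure Space (ι : Type) [Fintype ι] where
  /-- The form. -/
  Q : QuadraticForm (ZMod 3) (ι → ZMod 3)
  /-- The dimension. -/
  n : Nat
  /-- The places of the coordinates. -/
  pos : ι ≃ Fin n
  /-- The form on codes. -/
  qf : Nat → Nat
  /-- The polar form on codes. -/
  bil : Nat → Nat → Nat
  qf_eq : ∀ a, Q (fun i => (dig a (pos i) : ZMod 3)) = (qf a : ZMod 3)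
  bil_eq : ∀ a b, polar Q (fun i => (dig a (pos i) : ZMod 3)) (fun i => (dig b (pos i) : ZMod 3)) =
    (bil a b : ZMod 3)

variable {ι : Type} [Fintype ι] (S : Space ι) {a b c : Nat}

/-- The vector of a code. -/
def Space.vec (c : Nat) : ι → ZMod 3 := fun i => (dig c (S.pos i) : ZMod 3)

theorem Space.Q_vec (a : Nat) : S.Q (S.vec a) = (S.qf a : ZMod 3) := S.qf_eq a

theorem Space.polar_vec (a b : Nat) : polar S.Q (S.vec a) (S.vec b) = (S.bil a b : ZMod 3) :=
  S.bil_eq a b

theorem Space.vec_enc (f : Nat → Nat) : S.vec (enc S.n f) = fun i => (f (S.pos i) : ZMod 3) := by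
  funext i
  rw [Space.vec, dig_enc _ _ _ (S.pos i).2, ZMod.natCast_mod]

theorem Space.vec_negCode (c : Nat) : S.vec (negCode S.n c) = -S.vec c := by
  rw [negCode, S.vec_enc]
  funext i
  rw [Nat.cast_mul, Pi.neg_apply, show ((2 : ℕ) : ZMod 3) = -1 from rfl, neg_one_mul]
  rfl

theorem Space.vec_addMul (v t u : Nat) :
    S.vec (addMul S.n v t u) = S.vec v + (t : ZMod 3) • S.vec u := by
  rw [addMul, S.vec_enc]
  funext i
  simp [Space.vec]

theorem Space.vec_surj (v : ι → ZMod 3) : ∃ c < 3 ^ S.n, S.vec c = v := by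
  refine ⟨finFunctionFinEquiv (fun k => (v (S.pos.symm k) : Fin 3)), (finFunctionFinEquiv _).2, ?_⟩
  funext i
  obtain ⟨f, hf⟩ : ∃ f : Fin S.n → Fin 3, (fun k => (v (S.pos.symm k) : Fin 3)) = f := ⟨_, rfl⟩
  rw [hf]
  have h := congrArg Fin.val (congrFun (finFunctionFinEquiv.symm_apply_apply f) (S.pos i))
  rw [finFunctionFinEquiv_symm_apply_val] at h
  have e : dig (finFunctionFinEquiv f) (S.pos i) = (f (S.pos i) : ℕ) := h
  rw [Space.vec, e, ← hf]
  simp only [Equiv.symm_apply_apply]
  exact ZMod.natCast_zmod_val (v i)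

variable [DecidableEq ι]

/-- The reflection of a vector of norm one. -/
noncomputable def Space.refl (c : Nat) : Cfsg.isometryGroup (ZMod 3) ⇑S.Q :=
  if h : S.Q (S.vec c) ≠ 0 then (oEquiv S.Q).symm (rO h) else 1

theorem Space.refl_mat (h : S.Q (S.vec c) = 1) :
    ((S.refl c : GL ι (ZMod 3)) : Matrix ι ι (ZMod 3)) = Cfsg.reflectionMatrix (⇑S.Q) (S.vec c) := by
  have h0 : S.Q (S.vec c) ≠ 0 := by rw [h]; decide
  rw [Space.refl, dif_pos h0]
  exact (matrix_eq_reflection_iff h0).2 (MulEquiv.apply_symm_apply _ _)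

theorem Space.refl_apply (h : S.Q (S.vec c) = 1) (x : ι → ZMod 3) :
    ((S.refl c : GL ι (ZMod 3)) : Matrix ι ι (ZMod 3)) *ᵥ x =
      x - polar S.Q x (S.vec c) • S.vec c := by
  rw [S.refl_mat h, reflectionMatrix_mulVec, h, div_one]

theorem Space.refl_eq_of {a b : Nat} (ha : S.Q (S.vec a) = 1)
    (h : S.vec b = S.vec a ∨ S.vec b = -S.vec a) : S.refl b = S.refl a := by
  have hb : S.Q (S.vec b) = 1 := by
    rcases h with h | h
    · rw [h, ha]
    · rw [h, QuadraticMap.map_neg, ha]
  refine Subtype.ext (Units.ext (Matrix.ext_of_mulVec_single fun i => ?_))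
  rw [S.refl_apply ha, S.refl_apply hb]
  rcases h with h | h <;> rw [h]
  rw [polar_neg_right, neg_smul_neg]

theorem Space.of_refl_eq (ha : S.Q (S.vec a) = 1) (hb : S.Q (S.vec b) = 1)
    (h : S.refl a = S.refl b) : S.vec b = S.vec a ∨ S.vec b = -S.vec a := by
  have h1 := S.refl_apply ha (S.vec a)
  rw [h, S.refl_apply hb, polar_self, ha] at h1
  have h2 : polar S.Q (S.vec a) (S.vec b) • S.vec b = (2 : ZMod 3) • S.vec a := by
    simpa using h1
  have key : ∀ t : ZMod 3, t • S.vec b = (2 : ZMod 3) • S.vec a →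
      S.vec b = S.vec a ∨ S.vec b = -S.vec a := by
    intro t ht
    have hne : (2 : ZMod 3) • S.vec a ≠ 0 := fun h0 => by
      have := congrArg S.Q h0
      rw [QuadraticMap.map_smul, QuadraticMap.map_zero, ha] at this
      revert this; decide
    fin_cases t
    · exact absurd (ht.symm.trans (zero_smul _ _)) hne
    · right
      have e : (1 : ZMod 3) • S.vec b = (-1 : ZMod 3) • S.vec a := ht
      simpa using e
    · left
      exact smul_right_injective _ (show (2 : ZMod 3) ≠ 0 by decide) ht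
  exact key _ h2

theorem Space.refl_conj (ha : S.Q (S.vec a) = 1) (hb : S.Q (S.vec b) = 1)
    (hc : S.vec c = S.vec b - polar S.Q (S.vec b) (S.vec a) • S.vec a) :
    S.refl a * S.refl b * (S.refl a)⁻¹ = S.refl c := by
  have hQ : S.Q (S.vec c) = 1 := by
    rw [hc, ← S.refl_apply ha]
    exact (mem_isometryGroup_iff.1 (S.refl a).2 _).trans hb
  rw [mul_inv_eq_iff_eq_mul]
  refine Subtype.ext (Units.ext (Matrix.ext_of_mulVec_single fun i => ?_))
  simp only [Subgroup.coe_mul, Units.val_mul, ← Matrix.mulVec_mulVec]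
  generalize (Pi.single i (1 : ZMod 3) : ι → ZMod 3) = x
  rw [S.refl_apply hb, S.refl_apply ha x, S.refl_apply ha, S.refl_apply hQ, hc]
  simp only [polar_sub_left, polar_sub_right, polar_smul_left, polar_smul_right, smul_eq_mul,
    polar_self, ha, polar_comm (⇑S.Q) (S.vec a) (S.vec b)]
  match_scalars <;> ring

theorem Space.range_refl {m : Nat} (V : Nat → Nat) (hV : ∀ i < m, S.Q (S.vec (V i)) = 1)
    (hsurj : ∀ v, S.Q v = 1 → ∃ i < m, S.vec (V i) = v ∨ S.vec (V i) = -v) :
    (Set.range fun i : Fin m => S.refl (V i)) = Cfsg.reflectionsOfNorm (⇑S.Q) 1 := by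
  ext g
  constructor
  · rintro ⟨i, rfl⟩
    exact ⟨_, hV i i.2, S.refl_mat (hV i i.2)⟩
  · rintro ⟨v, hv, hg⟩
    obtain ⟨c, -, rfl⟩ := S.vec_surj v
    obtain ⟨i, hi, h⟩ := hsurj _ hv
    exact ⟨⟨i, hi⟩, (S.refl_eq_of hv h).trans
      (Subtype.ext (Units.ext ((S.refl_mat hv).trans hg.symm)))⟩

/-- The sum of squares. -/
noncomputable def squares (n : Nat) : Space (Fin n) where
  Q := QuadraticMap.weightedSumSquares (ZMod 3) fun _ : Fin n => (1 : ZMod 3)
  n := n
  pos := Equiv.refl _
  qf a := dot (dig a) (dig a) n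
  bil a b := 2 * dot (dig a) (dig b) n
  qf_eq a := by
    rw [dot_eq, Nat.cast_sum, Finset.sum_range]
    simp [QuadraticMap.weightedSumSquares_apply]
  bil_eq a b := by
    rw [Nat.cast_mul, dot_eq, Nat.cast_sum, Finset.sum_range, Finset.mul_sum]
    simp only [polar, QuadraticMap.weightedSumSquares_apply, ← Finset.sum_sub_distrib]
    refine Finset.sum_congr rfl fun i _ => ?_
    simp
    ring

/-- The hyperbolic form in dimension eight. -/
noncomputable def plusEight : Space (Fin 4 ⊕ Fin 4) where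
  Q := (Cfsg.Agent.Classical.Quad.hyp (zeroForm (ZMod 3)) 4).comp (plusCoord 4).toLinearMap
  n := 4 + 4
  pos := finSumFinEquiv
  qf a := dot (dig a) (fun k => dig a (k + 4)) 4
  bil a b := dot (dig a) (fun k => dig b (k + 4)) 4 + dot (fun k => dig a (k + 4)) (dig b) 4
  qf_eq a := by
    rw [dot_eq, Nat.cast_sum, Finset.sum_range]
    simp only [QuadraticMap.comp_apply, LinearEquiv.coe_coe, plusCoord_map, Cfsg.quadFormPlus,
      Fin.sum_univ_four, Nat.cast_mul]
    rfl
  bil_eq a b := by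
    rw [Nat.cast_add, dot_eq, dot_eq, Nat.cast_sum, Nat.cast_sum, Finset.sum_range, Finset.sum_range,
      ← Finset.sum_add_distrib]
    simp only [polar, QuadraticMap.comp_apply, LinearEquiv.coe_coe, plusCoord_map,
      Cfsg.quadFormPlus, Pi.add_apply]
    simp only [Fin.sum_univ_four, Nat.cast_mul]
    show (_ : ZMod 3) = _
    simp only [show ∀ x : Fin 4, ((finSumFinEquiv (Sum.inl x) : Fin (4 + 4)) : ℕ) = x from fun _ => rfl,
      show ∀ x : Fin 4, ((finSumFinEquiv (Sum.inr x) : Fin (4 + 4)) : ℕ) = 4 + x from fun _ => rfl]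
    ring_nf!

end Cfsg.Agent.FischerTypes
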