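import Cfsg.Agent.CosetCert.Pack
import Cfsg.Agent.FischerTypes.Vectors

/-!
# Programs comparing a set of points with a set of vectors
-/

set_option autoImplicit false

namespace Cfsg.Agent.FischerTypes

open Cfsg.Agent.CosetCert

/-- Search in sorted entries `point * 4096 + index`, giving the index. -/
noncomputable def find (srt : Nat → Nat) (m c : Nat) : Nat :=
  Nat.rec (motive := fun _ => Nat → Nat → Nat) (fun lo _ => srt lo % 4096)
    (fun _ ih lo hi => force ((lo + hi) / 2) fun mid => force (srt mid / 4096) fun v =>
      Bool.rec (motive := fun _ => Nat) (ih mid hi) (ih lo mid) (Nat.blt c v))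
    13 0 m

/-- The point is found. -/
noncomputable def okFind (P srt : Nat → Nat) (m i : Nat) : Bool :=
  Nat.beq (find srt m (P i)) i

/-- The condition holds only at listed points. -/
noncomputable def okScan (cond : Nat → Bool) (P srt : Nat → Nat) (m c : Nat) : Bool :=
  !cond c || force (find srt m c) fun i => gate (Nat.blt i m) (Nat.beq (P i) c)

/-- The listed points satisfy the condition. -/
noncomputable def okCond (cond : Nat → Bool) (P : Nat → Nat) (N i : Nat) : Bool :=
  force (P i) fun c => gate (Nat.blt c N) (cond c)

/-- A point is among the first ones or is an image of an earlier one. -/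
noncomputable def okReach (P par : Nat → Nat) (mv : Nat → Nat → Nat) (nJ i : Nat) : Bool :=
  Nat.blt i nJ || force (par i) fun q => force (q / 16) fun i' => force (q % 16) fun j =>
    gate (Nat.blt i' i) (gate (Nat.blt j nJ) (Nat.beq (mv j (P i')) (P i)))

/-- The vector of a point has norm one and is found from its code and from its negative's. -/
noncomputable def okVec (n : Nat) (qf : Nat → Nat) (V idx : Nat → Nat) (i : Nat) : Bool :=
  force (V i) fun v => gate (Nat.beq (qf v % 3) 1)
    (gate (Nat.beq (idx (enc n fun k => dig v k)) i) (Nat.beq (idx (negCode n v)) i))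

/-- Equal up to sign. -/
noncomputable def upToSign (n a b : Nat) : Bool := Nat.beq a b || Nat.beq a (negCode n b)

/-- A listed element moves a point as its reflection moves the vector. -/
noncomputable def okStep (n : Nat) (bil : Nat → Nat → Nat) (P V idx : Nat → Nat)
    (mv : Nat → Nat → Nat) (m j i : Nat) : Bool :=
  force (V i) fun v => force (V j) fun u => force (2 * (bil v u % 3)) fun t =>
    force (addMul n v t u) fun w => force (idx w) fun k =>
      gate (Nat.blt k m) (gate (Nat.beq (P k) (mv j (P i))) (upToSign n (V k) w))

/-- All listed elements move the point rightly. -/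
noncomputable def okSteps (n : Nat) (bil : Nat → Nat → Nat) (P V idx : Nat → Nat)
    (mv : Nat → Nat → Nat) (m nJ i : Nat) : Bool :=
  allFrom (fun j => okStep n bil P V idx mv m j i) 0 nJ

/-- A vector of norm one is listed. -/
noncomputable def okCode (n : Nat) (qf : Nat → Nat) (V idx : Nat → Nat) (m c : Nat) : Bool :=
  !Nat.beq (qf c % 3) 1 || force (idx c) fun i => gate (Nat.blt i m) (upToSign n (V i) c)

variable {P srt par V idx : Nat → Nat} {mv : Nat → Nat → Nat} {cond : Nat → Bool}
  {N m nJ n i j c : Nat}

theorem all_of (p : Nat → Bool) (h : allFrom p 0 N = true) (hc : c < N) : p c = true :=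
  (allFrom_iff p 0 N).1 h c (Nat.zero_le c) (by rw [Nat.zero_add]; exact hc)

theorem point_inj (h : allFrom (okFind P srt m) 0 m = true) (hi : i < m) (hj : j < m)
    (e : P i = P j) : i = j := by
  have e1 : okFind P srt m i = true := all_of _ h hi
  have e2 : okFind P srt m j = true := all_of _ h hj
  rw [← Nat.eq_of_beq_eq_true e1, ← Nat.eq_of_beq_eq_true e2, e]

theorem listed_of_scan (h : allFrom (okScan cond P srt m) 0 N = true) (hc : c < N)
    (hcond : cond c = true) : ∃ i < m, P i = c := by
  have := all_of _ h hc
  simp only [okScan, hcond, Bool.not_true, Bool.false_or, force_eq, gate_eq, Bool.and_eq_true] at this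
  exact ⟨_, Nat.blt_eq.mp this.1, Nat.eq_of_beq_eq_true this.2⟩

theorem cond_of (h : allFrom (okCond cond P N) 0 m = true) (hi : i < m) :
    P i < N ∧ cond (P i) = true := by
  have := all_of _ h hi
  simp only [okCond, force_eq, gate_eq, Bool.and_eq_true] at this
  exact ⟨Nat.blt_eq.mp this.1, this.2⟩

theorem reach_of (h : allFrom (okReach P par mv nJ) 0 m = true) (hi : i < m) :
    i < nJ ∨ ∃ i' j, i' < i ∧ j < nJ ∧ mv j (P i') = P i := by
  have := all_of _ h hi
  simp only [okReach, force_eq, gate_eq, Bool.or_eq_true, Bool.and_eq_true] at this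
  rcases this with h | h
  · exact Or.inl (Nat.blt_eq.mp h)
  · exact Or.inr ⟨_, _, Nat.blt_eq.mp h.1, Nat.blt_eq.mp h.2.1, Nat.eq_of_beq_eq_true h.2.2⟩

end Cfsg.Agent.FischerTypes
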