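import Cfsg.Agent.FischerTypes.Pairing
import Cfsg.Agent.FischerTypes.Checks

/-!
# A set of transpositions as a set of reflections

Points whose transpositions move each other as the reflections in vectors of norm one move
those reflections: the groups agree modulo their centres.
-/

set_option autoImplicit false
set_option linter.unusedSectionVars false

namespace Cfsg.Agent.FischerTypes

open Cfsg.Agent.CosetCert QuadraticMap Cfsg.Agent.Classical.Quad

variable {ι : Type} [Fintype ι] {S : Space ι} {P srt par V idx : Nat → Nat}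
  {mv : Nat → Nat → Nat} {N m nJ i j c : Nat}

/-- What the programs verify. -/
structure Verified (S : Space ι) (P par V idx : Nat → Nat) (mv : Nat → Nat → Nat)
    (N m nJ : Nat) : Prop where
  le : nJ ≤ m
  lt : ∀ i < m, P i < N
  inj : ∀ i < m, ∀ j < m, P i = P j → i = j
  reach : allFrom (okReach P par mv nJ) 0 m = true
  vecs : allFrom (okVec S.n S.qf V idx) 0 m = true
  steps : allFrom (okSteps S.n S.bil P V idx mv m nJ) 0 m = true
  codes : allFrom (okCode S.n S.qf V idx m) 0 (3 ^ S.n) = true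

theorem cast_mod (a : Nat) : ((a % 3 : ℕ) : ZMod 3) = (a : ZMod 3) := ZMod.natCast_mod a 3

theorem vec_upToSign {a b : Nat} (h : upToSign S.n a b = true) :
    S.vec a = S.vec b ∨ S.vec a = -S.vec b := by
  rw [upToSign, Bool.or_eq_true] at h
  rcases h with h | h
  · exact Or.inl (by rw [Nat.eq_of_beq_eq_true h])
  · exact Or.inr (by rw [Nat.eq_of_beq_eq_true h, S.vec_negCode])

variable (hv : Verified S P par V idx mv N m nJ)

include hv in
theorem norm_one (hi : i < m) : S.Q (S.vec (V i)) = 1 := by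
  have := all_of _ hv.vecs hi
  simp only [okVec, force_eq, gate_eq, Bool.and_eq_true] at this
  rw [S.Q_vec, ← cast_mod, Nat.eq_of_beq_eq_true this.1, Nat.cast_one]

include hv in
theorem vec_eq (hi : i < m) (hj : j < m) (h : S.vec (V i) = S.vec (V j) ∨ S.vec (V i) = -S.vec (V j)) :
    i = j := by
  have code : ∀ a b, S.vec a = S.vec b → ∀ k, k < S.n → dig a k = dig b k := by
    intro a b e k hk
    have := congrFun e (S.pos.symm ⟨k, hk⟩)
    rw [Space.vec, Space.vec, Equiv.apply_symm_apply, ZMod.natCast_eq_natCast_iff'] at this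
    simpa [dig] using this
  have canon : ∀ (n : Nat) (f g : Nat → Nat), (∀ k, k < n → f k % 3 = g k % 3) → enc n f = enc n g := by
    intro n
    induction n with
    | zero => intros; rfl
    | succ n ih =>
      intro f g e
      show f 0 % 3 + 3 * enc n _ = g 0 % 3 + 3 * enc n _
      rw [e 0 (Nat.succ_pos n), ih _ _ fun k hk => e (k + 1) (Nat.succ_lt_succ hk)]
  have hvi := all_of _ hv.vecs hi
  have hvj := all_of _ hv.vecs hj
  simp only [okVec, force_eq, gate_eq, Bool.and_eq_true] at hvi hvj
  rw [← Nat.eq_of_beq_eq_true hvi.2.1]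
  rcases h with h | h
  · rw [canon _ _ _ fun k hk => by rw [code _ _ h k hk], Nat.eq_of_beq_eq_true hvj.2.1]
  · rw [← S.vec_negCode] at h
    have e : (enc S.n fun k => dig (V i) k) = negCode S.n (V j) := canon _ _ _ fun k hk => by
      rw [code _ _ h k hk, negCode, dig_enc _ _ _ hk, Nat.mod_mod]
    rw [e, Nat.eq_of_beq_eq_true hvj.2.2]

variable [DecidableEq ι]

include hv in
theorem exists_step (hj : j < nJ) (hi : i < m) :
    ∃ k < m, P k = mv j (P i) ∧
      S.refl (V j) * S.refl (V i) * (S.refl (V j))⁻¹ = S.refl (V k) := by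
  have := all_of _ hv.steps hi
  have := all_of _ this hj
  simp only [okStep, force_eq, gate_eq, Bool.and_eq_true] at this
  obtain ⟨hk, hP, hV⟩ := this
  refine ⟨_, Nat.blt_eq.mp hk, Nat.eq_of_beq_eq_true hP, ?_⟩
  have hu : S.Q (S.vec (V j)) = 1 := norm_one hv (hj.trans_le hv.le)
  have e : S.vec (addMul S.n (V i) (2 * (S.bil (V i) (V j) % 3)) (V j)) =
      S.vec (V i) - polar S.Q (S.vec (V i)) (S.vec (V j)) • S.vec (V j) := by
    rw [S.vec_addMul, Nat.cast_mul, cast_mod, S.polar_vec, sub_eq_add_neg, ← neg_smul,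
      show ((2 : ℕ) : ZMod 3) = -1 from rfl, neg_one_mul]
  have hc := S.refl_conj hu (norm_one hv hi) e
  rw [hc]
  refine (S.refl_eq_of ?_ (vec_upToSign hV)).symm
  rw [e, ← S.refl_apply hu]
  exact (mem_isometryGroup_iff.1 (S.refl (V j)).2 _).trans (norm_one hv hi)

/-- The reflections of the listed vectors. -/
noncomputable def f₂ (S : Space ι) (V : Nat → Nat) (m : Nat) (i : Fin m) :
    Cfsg.isometryGroup (ZMod 3) ⇑S.Q := S.refl (V i)

include hv in
theorem f₂_injective : Function.Injective (f₂ S V m) := fun i j h =>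
  Fin.ext (vec_eq hv i.2 j.2 (S.of_refl_eq (norm_one hv j.2) (norm_one hv i.2) h.symm))

include hv in
theorem range_f₂ : Set.range (f₂ S V m) = Cfsg.reflectionsOfNorm (⇑S.Q) 1 := by
  refine S.range_refl V (fun i hi => norm_one hv hi) fun v hQ => ?_
  obtain ⟨c, hc, rfl⟩ := S.vec_surj v
  have := all_of _ hv.codes hc
  simp only [okCode, force_eq, gate_eq, Bool.or_eq_true, Bool.and_eq_true, Bool.not_eq_true'] at this
  rcases this with h | ⟨hi, h⟩
  · rw [S.Q_vec, ← cast_mod] at hQ
    have hlt := Nat.mod_lt (S.qf c) (show 0 < 3 by norm_num)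
    have hne : S.qf c % 3 ≠ 1 := fun e => by rw [e] at h; exact absurd h (by decide)
    interval_cases h3 : S.qf c % 3
    · exact absurd hQ (by decide)
    · exact absurd rfl hne
    · exact absurd hQ (by decide)
  · exact ⟨_, Nat.blt_eq.mp hi, vec_upToSign h⟩

variable {G : Type*} [Group G] (tau : Nat → G)

/-- The transpositions of the listed points. -/
def f₁ (tau : Nat → G) (P : Nat → Nat) (m : Nat) (i : Fin m) : G := tau (P i)

variable (hinj : ∀ a < N, ∀ b < N, tau a = tau b → a = b)
  (hconj : ∀ j < nJ, ∀ c < N, tau (P j) * tau c * (tau (P j))⁻¹ = tau (mv j c))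

include hv hinj in
theorem f₁_injective : Function.Injective (f₁ tau P m) := fun i j h =>
  Fin.ext (hv.inj i i.2 j j.2 (hinj _ (hv.lt i i.2) _ (hv.lt j j.2) h))

include hv hconj in
theorem alike (j : Fin m) (hj : (j : ℕ) < nJ) :
    Alike (f₁ tau P m) (f₂ S V m) (both (f₁ tau P m) (f₂ S V m) j) := by
  intro i
  obtain ⟨k, hk, hP, hV⟩ := exists_step hv hj i.2
  exact ⟨⟨k, hk⟩, (hconj j hj _ (hv.lt i i.2)).trans (congrArg tau hP.symm), hV⟩

include hv hconj in
theorem reached : ∀ i : Fin m, Reached (f₁ tau P m) (f₂ S V m) {j : Fin m | (j : ℕ) < nJ} i := by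
  rintro ⟨i, hi⟩
  induction i using Nat.strong_induction_on with
  | _ i ih =>
    rcases reach_of hv.reach hi with h | ⟨i', j, hlt, hj, e⟩
    · exact Reached.base h
    · obtain ⟨k, hk, hP, hV⟩ := exists_step hv hj (hlt.trans hi)
      have hki : k = i := hv.inj k hk i hi (hP.trans e)
      subst hki
      exact Reached.step (j := (⟨j, hj.trans_le hv.le⟩ : Fin m)) (show j < nJ from hj)
        (ih i' hlt (hlt.trans hi))
        ((hconj j hj _ (hv.lt i' (hlt.trans hi))).trans (congrArg tau e)) hV

include hv hinj hconj in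
theorem quot_iso : Nonempty
    ((Subgroup.closure (Set.range (f₁ tau P m)) ⧸
        Subgroup.center (Subgroup.closure (Set.range (f₁ tau P m)))) ≃*
      (Cfsg.reflectionSubgroup (⇑S.Q) 1 ⧸ Subgroup.center (Cfsg.reflectionSubgroup (⇑S.Q) 1))) := by
  have h := quot_center_iso (f₁_injective hv tau hinj) (f₂_injective hv) {j : Fin m | (j : ℕ) < nJ}
    (fun j hj => alike hv tau hconj j hj) (reached hv tau hconj)
  rw [range_f₂ hv] at h
  exact h

omit hv in
theorem range_f₁ (cond : Nat → Bool) (hscan : allFrom (okScan cond P srt m) 0 N = true)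
    (hcond : allFrom (okCond cond P N) 0 m = true) :
    Set.range (f₁ tau P m) = tau '' {c | c < N ∧ cond c = true} := by
  ext x
  constructor
  · rintro ⟨i, rfl⟩
    exact ⟨P i, cond_of hcond i.2, rfl⟩
  · rintro ⟨c, ⟨hc, hcd⟩, rfl⟩
    obtain ⟨i, hi, rfl⟩ := listed_of_scan hscan hc hcd
    exact ⟨⟨i, hi⟩, rfl⟩

end Cfsg.Agent.FischerTypes
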