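import Mathlib
import Cfsg.Prelude.Def_FischerSpaces

/-!
# Primitivity from rank three; carrying the types along isomorphisms
-/

set_option autoImplicit false

open Cfsg

namespace Cfsg.Agent.FischerTypes

variable {G : Type*} [Group G] {D : Set G}

/-- Rank three with both graphs connected: the action is primitive. -/
theorem primitive_of_rank_three {a : G} (ha : a ∈ D) (hD : ∀ d ∈ D, ∃ g, g * a * g⁻¹ = d)
    (hcl : ∀ g, ∀ d ∈ D, g * d * g⁻¹ ∈ D)
    (hc : ∀ b ∈ D, ∀ b' ∈ D, b ≠ a → b' ≠ a → Commute a b → Commute a b' →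
      ∃ g, Commute g a ∧ g * b * g⁻¹ = b')
    (hn : ∀ b ∈ D, ∀ b' ∈ D, ¬ Commute a b → ¬ Commute a b' →
      ∃ g, Commute g a ∧ g * b * g⁻¹ = b')
    (w1 : ∃ z ∈ D, ∃ b ∈ D, z ≠ a ∧ b ≠ z ∧ Commute a z ∧ Commute z b ∧ ¬ Commute a b)
    (w2 : ∃ z ∈ D, ∃ b ∈ D, ¬ Commute a z ∧ ¬ Commute z b ∧ Commute a b ∧ b ≠ a) :
    IsPrimitiveUnderConj D := by
  refine ⟨fun x hx y hy => ?_, ?_, fun B hBD hblock => ?_⟩
  · obtain ⟨g, rfl⟩ := hD x hx
    obtain ⟨k, rfl⟩ := hD y hy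
    exact ⟨k * g⁻¹, by group⟩
  · obtain ⟨z, hz, -, -, hne, -⟩ := w1
    exact ⟨z, hz, a, ha, hne⟩
  by_cases hs : B.Subsingleton
  · exact Or.inl hs
  right
  have stab : ∀ g : G, ∀ u ∈ B, g * u * g⁻¹ ∈ B → ∀ w ∈ B, g * w * g⁻¹ ∈ B := by
    intro g u hu hgu w hw
    rcases hblock g with h | h
    · exact h.subset ⟨w, hw, rfl⟩
    · exact absurd hgu (Set.disjoint_left.1 h ⟨u, hu, rfl⟩)
  obtain ⟨u, hu, v, hv, huv⟩ := Set.not_subsingleton_iff.1 hs
  obtain ⟨h, rfl⟩ := hD u (hBD hu)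
  let B' : Set G := {x | h * x * h⁻¹ ∈ B}
  have haB : a ∈ B' := hu
  have hBD' : ∀ x ∈ B', x ∈ D := fun x hx => by
    have := hcl h⁻¹ _ (hBD hx)
    rwa [show h⁻¹ * (h * x * h⁻¹) * h⁻¹⁻¹ = x by group] at this
  have stab' : ∀ g : G, ∀ x ∈ B', g * x * g⁻¹ ∈ B' → ∀ w ∈ B', g * w * g⁻¹ ∈ B' := by
    intro g x hx hgx w hw
    have := stab (h * g * h⁻¹) (h * x * h⁻¹) hx (by
      show h * g * h⁻¹ * (h * x * h⁻¹) * (h * g * h⁻¹)⁻¹ ∈ B
      rwa [show h * g * h⁻¹ * (h * x * h⁻¹) * (h * g * h⁻¹)⁻¹ = h * (g * x * g⁻¹) * h⁻¹ by group])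
      (h * w * h⁻¹) hw
    rwa [show h * g * h⁻¹ * (h * w * h⁻¹) * (h * g * h⁻¹)⁻¹ = h * (g * w * g⁻¹) * h⁻¹ by group]
      at this
  have fixA : ∀ g, Commute g a → g * a * g⁻¹ ∈ B' := fun g hg => by
    rw [hg.eq, mul_inv_cancel_right]; exact haB
  -- what `a` is related to inside `B'` spreads to all members of `B'`
  have spread : ∀ P : G → G → Prop, (∀ g x y, P x y → P (g * x * g⁻¹) (g * y * g⁻¹)) →
      (∀ y ∈ D, P a y → y ∈ B') → ∀ x ∈ B', ∀ y ∈ D, P x y → y ∈ B' := by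
    intro P hP hbase x hx y hy hxy
    obtain ⟨g, rfl⟩ := hD x (hBD' x hx)
    have h1 := hP g⁻¹ _ _ hxy
    rw [show g⁻¹ * (g * a * g⁻¹) * g⁻¹⁻¹ = a by group] at h1
    have := stab' g a haB hx _ (hbase _ (hcl g⁻¹ y hy) h1)
    rwa [show g * (g⁻¹ * y * g⁻¹⁻¹) * g⁻¹ = y by group] at this
  obtain ⟨b, hb, hba⟩ : ∃ b ∈ B', b ≠ a := by
    refine ⟨h⁻¹ * v * h, ?_, fun e => huv ?_⟩
    · show h * (h⁻¹ * v * h) * h⁻¹ ∈ B
      rwa [show h * (h⁻¹ * v * h) * h⁻¹ = v by group]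
    · rw [← e]; group
  have hN : ∀ b ∈ B', ¬ Commute a b → ∀ y ∈ D, ¬ Commute a y → y ∈ B' := fun b hb hab y hy hay => by
    obtain ⟨g, hg, rfl⟩ := hn b (hBD' b hb) y hy hab hay
    exact stab' g a haB (fixA g hg) b hb
  have hC : ∀ b ∈ B', b ≠ a → Commute a b → ∀ y ∈ D, Commute a y → y ∈ B' :=
    fun b hb hba hab y hy hay => by
      by_cases hya : y = a
      · exact hya ▸ haB
      obtain ⟨g, hg, rfl⟩ := hc b (hBD' b hb) y hy hba hya hab hay
      exact stab' g a haB (fixA g hg) b hb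
  have conjC : ∀ g x y : G, Commute x y → Commute (g * x * g⁻¹) (g * y * g⁻¹) :=
    fun g x y h => (Commute.conj_iff g).2 h
  have conjN : ∀ g x y : G, ¬ Commute x y → ¬ Commute (g * x * g⁻¹) (g * y * g⁻¹) :=
    fun g x y h h' => h ((Commute.conj_iff g).1 h')
  have hall : ∀ y ∈ D, y ∈ B' := by
    intro y hy
    by_cases hab : Commute a b
    · have hc' := hC b hb hba hab
      by_cases hay : Commute a y
      · exact hc' y hy hay
      obtain ⟨z, hz, b₁, hb₁, -, -, haz, hzb, hab₁⟩ := w1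
      exact hN b₁ (spread Commute conjC hc' z (hc' z hz haz) b₁ hb₁ hzb) hab₁ y hy hay
    · have hn' := hN b hb hab
      by_cases hay : Commute a y
      · obtain ⟨z, hz, b₁, hb₁, haz, hzb, hab₁, hne⟩ := w2
        exact hC b₁ (spread (fun x y => ¬ Commute x y) conjN hn' z (hn' z hz haz) b₁ hb₁ hzb) hne hab₁
          y hy hay
      · exact hn' y hy hay
  refine hBD.antisymm fun y hy => ?_
  have h1 : h * (h⁻¹ * y * h⁻¹⁻¹) * h⁻¹ ∈ B := hall _ (hcl h⁻¹ y hy)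
  rwa [show h * (h⁻¹ * y * h⁻¹⁻¹) * h⁻¹ = y by group] at h1

/-- Conjugates of one element form a class. -/
theorem class_of_map {G' : Type*} [Group G'] (e : G ≃* G') (a : G) :
    e '' conjugatesOf a = conjugatesOf (e a) := by
  ext x
  simp only [Set.mem_image, conjugatesOf, Set.mem_ofPred_eq, isConj_iff]
  constructor
  · rintro ⟨_, ⟨g, rfl⟩, rfl⟩
    exact ⟨e g, by simp⟩
  · rintro ⟨g, rfl⟩
    exact ⟨e.symm g * a * (e.symm g)⁻¹, ⟨_, rfl⟩, by simp⟩

section Transfer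

variable {G' : Type*} [Group G'] (e : G ≃* G')

theorem map_center {A B : Type*} [Group A] [Group B] (e : A ≃* B) :
    (Subgroup.center A).map (e : A →* B) = Subgroup.center B := by
  ext b
  rw [Subgroup.mem_map]
  simp only [Subgroup.mem_center_iff, MonoidHom.coe_coe]
  constructor
  · rintro ⟨a, ha, rfl⟩ g
    obtain ⟨x, rfl⟩ := e.surjective g
    rw [← map_mul, ← map_mul, ha]
  · intro hb
    exact ⟨e.symm b, fun g => e.injective (by rw [map_mul, map_mul, e.apply_symm_apply, hb]),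
      e.apply_symm_apply b⟩

/-- The quotients by the centres. -/
noncomputable def quotCenter {A B : Type*} [Group A] [Group B] (e : A ≃* B) :
    A ⧸ Subgroup.center A ≃* B ⧸ Subgroup.center B :=
  QuotientGroup.congr _ _ e (map_center e)

include e in
theorem center_bot (h : Subgroup.center G = ⊥) : Subgroup.center G' = ⊥ := by
  rw [← map_center e, h, Subgroup.map_bot]

/-- The partners of the image. -/
theorem image_partners (d : G) :
    e '' {y : G | y ∈ D ∧ y ≠ d ∧ Commute d y} = {y : G' | y ∈ e '' D ∧ y ≠ e d ∧ Commute (e d) y} := by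
  ext x
  constructor
  · rintro ⟨y, ⟨hy, hne, hc⟩, rfl⟩
    exact ⟨⟨y, hy, rfl⟩, e.injective.ne hne, hc.map e⟩
  · rintro ⟨⟨y, hy, rfl⟩, hne, hc⟩
    refine ⟨y, ⟨hy, fun h => hne (by rw [h]), ?_⟩, rfl⟩
    have := hc.map e.symm
    rwa [e.symm_apply_apply, e.symm_apply_apply] at this

/-- The closures. -/
theorem exists_closure_equiv {S : Set G} {S' : Set G'} (h : e '' S = S') :
    ∃ f : Subgroup.closure S ≃* Subgroup.closure S', ∀ x, (f x : G') = e x :=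
  ⟨(e.subgroupMap (Subgroup.closure S)).trans (MulEquiv.subgroupCongr (by
    rw [← h, MonoidHom.map_closure, MonoidHom.coe_coe])), fun _ => rfl⟩

theorem reflection_transfer {X Y : Type*} [Group X] [Group Y] (f : X ≃* Y) {n : ℕ} {μ c : ZMod 3}
    (h : IsProjReflectionGroupModThree X n μ c) : IsProjReflectionGroupModThree Y n μ c := by
  obtain ⟨Q, h1, h2, ⟨q⟩⟩ := h
  exact ⟨Q, h1, h2, ⟨f.symm.trans q⟩⟩

theorem m22_transfer (h : IsOfTypeM22 G D) : IsOfTypeM22 G' (e '' D) := by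
  obtain ⟨hZ, d, hd, c, hc, hdc, ⟨F, hF, hFt, hcard, ⟨q⟩⟩, c₃, hc₃, hR⟩ := h
  refine ⟨center_bot e hZ, e d, ⟨d, hd, rfl⟩, e c, ⟨c, hc, rfl⟩, fun h' => hdc ?_, ?_, c₃, hc₃, ?_⟩
  · have := h'.map e.symm
    rwa [e.symm_apply_apply, e.symm_apply_apply] at this
  · obtain ⟨f, -⟩ := exists_closure_equiv e (image_partners (D := D) e d)
    exact ⟨F, hF, hFt, hcard, ⟨(quotCenter f).symm.trans q⟩⟩
  · obtain ⟨f, -⟩ := exists_closure_equiv e (S := {y : G | y ∈ D ∧ y ≠ d ∧ Commute d y} ∩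
      {y : G | y ∈ D ∧ y ≠ c ∧ Commute c y}) (by
        rw [Set.image_inter e.injective, image_partners, image_partners])
    exact reflection_transfer (quotCenter f) hR

theorem image_mk {S : Set G} {S' : Set G'} (h : e '' S = S')
    (f : Subgroup.closure S ≃* Subgroup.closure S') (hf : ∀ x, (f x : G') = e x) :
    quotCenter f '' ((QuotientGroup.mk : Subgroup.closure S → _) '' {x | (x : G) ∈ S}) =
      (QuotientGroup.mk : Subgroup.closure S' → _) '' {x | (x : G') ∈ S'} := by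
  ext q
  constructor
  · rintro ⟨_, ⟨x, hx, rfl⟩, rfl⟩
    exact ⟨f x, by show (f x : G') ∈ S'; rw [hf, ← h]; exact ⟨_, hx, rfl⟩, rfl⟩
  · rintro ⟨y, hy, rfl⟩
    obtain ⟨x, rfl⟩ := f.surjective y
    refine ⟨_, ⟨x, ?_, rfl⟩, rfl⟩
    have hy' : (f x : G') ∈ S' := hy
    rw [hf, ← h] at hy'
    exact (e.injective.mem_set_image).1 hy'

theorem m23_transfer (h : IsOfTypeM23 G D) : IsOfTypeM23 G' (e '' D) := by
  obtain ⟨hZ, d, hd, c, hc, hdc, h22, c₃, hc₃, hR⟩ := h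
  refine ⟨center_bot e hZ, e d, ⟨d, hd, rfl⟩, e c, ⟨c, hc, rfl⟩, fun h' => hdc ?_, ?_, c₃, hc₃, ?_⟩
  · have := h'.map e.symm
    rwa [e.symm_apply_apply, e.symm_apply_apply] at this
  · obtain ⟨f, hf⟩ := exists_closure_equiv e (image_partners (D := D) e d)
    rw [← image_mk e (image_partners (D := D) e d) f hf]
    exact m22_transfer (quotCenter f) h22
  · obtain ⟨f, -⟩ := exists_closure_equiv e (S := {y : G | y ∈ D ∧ y ≠ d ∧ Commute d y} ∩
      {y : G | y ∈ D ∧ y ≠ c ∧ Commute c y}) (by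
        rw [Set.image_inter e.injective, image_partners, image_partners])
    exact reflection_transfer (quotCenter f) hR

end Transfer

/-- The generating set of a subgroup, in the quotient by the centre, as the image of a class. -/
theorem image_of_class {A : Type*} [Group A] {H : Subgroup G} {S : Set G}
    (e : A ≃* H ⧸ Subgroup.center H) {a : A} {s : H} (he : e a = QuotientGroup.mk s)
    (hS : ∀ y : G, y ∈ S ↔ ∃ g ∈ H, g * (s : G) * g⁻¹ = y) :
    e '' conjugatesOf a = (QuotientGroup.mk : H → _) '' {x | (x : G) ∈ S} := by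
  rw [class_of_map e, he]
  ext q
  constructor
  · intro hq
    obtain ⟨k, rfl⟩ := isConj_iff.1 hq
    obtain ⟨g, rfl⟩ := QuotientGroup.mk_surjective k
    exact ⟨g * s * g⁻¹, (hS _).2 ⟨g, g.2, rfl⟩, rfl⟩
  · rintro ⟨x, hx, rfl⟩
    obtain ⟨g, hg, hgx⟩ := (hS _).1 hx
    exact isConj_iff.2 ⟨QuotientGroup.mk ⟨g, hg⟩, congrArg QuotientGroup.mk
      (Subtype.ext hgx : (⟨g, hg⟩ : H) * s * (⟨g, hg⟩ : H)⁻¹ = x)⟩

end Cfsg.Agent.FischerTypes
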