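import Cfsg.Agent.FischerTypes.Points22
import Cfsg.Agent.FischerTypes.Prim
import Cfsg.Agent.FischerTypes.Model
import Cfsg.Agent.FischerTypes.Check22
import Cfsg.Agent.S0283

/-!
# Fi22 with its transpositions is of type M(22)
-/

set_option autoImplicit false
set_option maxRecDepth 100000

namespace Cfsg.Agent.FischerTypes.F22

open Cfsg.Agent.CosetCert

/-- The class. -/
abbrev D : Set G := conjugatesOf t

/-- The second transposition. -/
noncomputable abbrev t' : G := tau 2

/-- Paths to the points of the listed elements. -/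
def paths : List (List Nat) :=
  [[1, 0, 2, 1, 3, 2], [1, 0, 2, 1, 3, 2, 4, 3], [1, 0, 2, 1, 3, 2, 4, 3, 5, 4],
   [1, 0, 2, 1, 3, 2, 4, 3, 5, 4, 6, 5], [1, 0, 2, 1, 3, 2, 7, 3],
   [1, 0, 2, 1, 3, 2, 7, 3, 8, 7], [1, 2, 3, 4, 5, 7, 3, 2, 1, 4, 3, 2]]

theorem names : ∀ j, j < 7 → ((paths.getD j []).all fun x => Nat.blt x 9) = true ∧
    ((W.getD j []).all fun x => Nat.blt x 9) = true ∧
    Nat.beq (Fi22U62.data.fwd (paths.getD j []) 0) (Pf j) = true ∧
    allFrom (nameB (paths.getD j []) (W.getD j [])) 0 3510 = true := by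
  intro j hj
  interval_cases j <;> exact ⟨by decide +kernel, by decide +kernel, by decide +kernel, by decide +kernel⟩

theorem letters_of {w : List Nat} (h : (w.all fun x => Nat.blt x 9) = true) : ∀ x ∈ w, x < 9 :=
  fun x hx => Nat.blt_eq.mp (List.all_eq_true.1 h x hx)

theorem tau_two : tau 2 = gen 1 := by
  have h := eq_of_name (path := [1, 0]) (w := [1]) (by simp) (by simp) (by decide +kernel)
  rw [show Fi22U62.data.fwd [1, 0] 0 = 2 by decide +kernel] at h
  rw [← h]
  simp [gw]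

theorem hconj (j : Nat) (hj : j < 7) (c : Nat) (hc : c < 3510) :
    tau (Pf j) * tau c * (tau (Pf j))⁻¹ = tau (mv j c) := by
  obtain ⟨h1, h2, h3, h4⟩ := names j hj
  have e := eq_of_name (letters_of h1) (letters_of h2) h4
  rw [Nat.eq_of_beq_eq_true h3] at e
  rw [← e]
  exact conj_gw (letters_of h2) hc

theorem commute_t_iff {c : Nat} (hc : c < 3510) :
    Commute t (tau c) ↔ Fi22U62.data.fwd [0] c = c := by
  have e := conj_gw (w := [0]) (by simp) hc
  rw [show gw [0] = t by simp [gw]; rfl] at e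
  constructor
  · intro h
    rw [h.eq, mul_inv_cancel_right] at e
    exact (tau_inj (by
      have := (φ (gw [0]) ⟨c, hc⟩).2
      rwa [φ_gw (by simp)] at this) hc e.symm)
  · intro h
    rw [h] at e
    exact eq_mul_of_mul_inv_eq e

theorem commute_t'_iff {c : Nat} (hc : c < 3510) :
    Commute t' (tau c) ↔ Fi22U62.data.fwd [1] c = c := by
  have e := conj_gw (w := [1]) (by simp) hc
  rw [show gw [1] = t' by rw [t', tau_two]; simp [gw]] at e
  constructor
  · intro h
    rw [h.eq, mul_inv_cancel_right] at e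
    exact (tau_inj (by
      have := (φ (gw [1]) ⟨c, hc⟩).2
      rwa [φ_gw (by simp)] at this) hc e.symm)
  · intro h
    rw [h] at e
    exact eq_mul_of_mul_inv_eq e

theorem ne_of_fwd {c : Nat} (hc : c < 3510) {d : Nat} (hd : d < 3510) (h : c ≠ d) : tau c ≠ tau d :=
  fun e => h (tau_inj hc hd e)

theorem not_commute : ¬ Commute t t' := by
  rw [t', commute_t_iff (by decide)]; decide +kernel

theorem cond_iff {c : Nat} : cond c = true ↔
    Fi22U62.data.fwd [0] c = c ∧ Fi22U62.data.fwd [1] c = c ∧ c ≠ 0 ∧ c ≠ 2 := by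
  have hb : ∀ a b : Nat, Nat.beq a b = true ↔ a = b := fun a b =>
    ⟨Nat.eq_of_beq_eq_true, fun e => e ▸ Nat.beq_refl a⟩
  simp only [cond, gate_eq, Bool.and_eq_true, hb, Bool.not_eq_true', ne_eq, ← Bool.not_eq_true]

theorem partners_inter :
    {y : G | y ∈ D ∧ y ≠ t ∧ Commute t y} ∩ {y : G | y ∈ D ∧ y ≠ t' ∧ Commute t' y} =
      tau '' {c | c < 3510 ∧ cond c = true} := by
  ext y
  constructor
  · rintro ⟨⟨hy, h0, hc0⟩, -, h2, hc2⟩
    obtain ⟨c, hc, rfl⟩ := exists_tau hy
    refine ⟨c, ⟨hc, ?_⟩, rfl⟩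
    have e0 := (commute_t_iff hc).1 hc0
    have e1 := (commute_t'_iff hc).1 hc2
    have n0 : c ≠ 0 := fun e => h0 (by rw [e, tau_zero])
    have n2 : c ≠ 2 := fun e => h2 (by rw [e])
    exact cond_iff.2 ⟨e0, e1, n0, n2⟩
  · rintro ⟨c, ⟨hc, h⟩, rfl⟩
    rw [cond_iff] at h
    refine ⟨⟨tau_mem hc, fun e => h.2.2.1 (tau_inj hc (by decide) (e.trans tau_zero.symm)), ?_⟩,
      tau_mem hc, ne_of_fwd hc (by decide) h.2.2.2, (commute_t'_iff hc).2 h.2.1⟩
    exact (commute_t_iff hc).2 h.1

theorem verified : Verified (squares 6) Pf parf Vf idxf mv 3510 126 7 where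
  le := by decide
  lt := fun _ hi => (cond_of conds hi).1
  inj := fun _ hi _ hj => point_inj finds hi hj
  reach := reaches
  vecs := vecs
  steps := steps
  codes := codes

theorem squares_nondeg (n : ℕ) : (QuadraticMap.polarBilin (squares n).Q).Nondegenerate := by
  have key : ∀ v w : Fin n → ZMod 3, QuadraticMap.polarBilin (squares n).Q v w = 2 * ∑ i, v i * w i := by
    intro v w
    simp only [QuadraticMap.polarBilin_apply_apply, QuadraticMap.polar, squares,
      QuadraticMap.weightedSumSquares_apply, ← Finset.sum_sub_distrib, Finset.mul_sum, one_smul]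
    refine Finset.sum_congr rfl fun i _ => ?_
    simp only [Pi.add_apply]
    ring
  refine ⟨fun v hv => funext fun i => ?_, fun w hw => funext fun i => ?_⟩
  · have := hv (Pi.single i 1)
    rw [key] at this
    simp [Pi.single_apply] at this
    rcases this with h | h
    · exact absurd h (by decide)
    · exact h
  · have := hw (Pi.single i 1)
    rw [key] at this
    simp [Pi.single_apply] at this
    rcases this with h | h
    · exact absurd h (by decide)
    · exact h

theorem squares_det (n : ℕ) : Cfsg.polarGramDet ⇑(squares n).Q = 2 ^ n := by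
  have : (Matrix.of fun i j : Fin n => QuadraticMap.polar ⇑(squares n).Q (Pi.single i 1)
      (Pi.single j 1)) = Matrix.diagonal fun _ => (2 : ZMod 3) := by
    ext i j
    simp only [Matrix.of_apply, QuadraticMap.polar, squares, QuadraticMap.weightedSumSquares_apply,
      ← Finset.sum_sub_distrib, Matrix.diagonal_apply, Pi.add_apply, one_smul]
    rw [Finset.sum_eq_single i]
    · by_cases h : i = j <;> simp [h, Pi.single_apply, Ne.symm] <;> ring
    · intro k _ hk; simp [Pi.single_apply, hk]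
    · simp
  rw [Cfsg.polarGramDet, this, Matrix.det_diagonal, Finset.prod_const, Finset.card_univ, Fintype.card_fin]

theorem common_part : Cfsg.IsProjReflectionGroupModThree
    (↥(Subgroup.closure ({y : G | y ∈ D ∧ y ≠ t ∧ Commute t y} ∩ {y : G | y ∈ D ∧ y ≠ t' ∧ Commute t' y})) ⧸
      Subgroup.center ↥(Subgroup.closure ({y : G | y ∈ D ∧ y ≠ t ∧ Commute t y} ∩
        {y : G | y ∈ D ∧ y ≠ t' ∧ Commute t' y}))) 6 1 1 := by
  have h := quot_iso verified tau (fun a ha b hb => tau_inj ha hb) hconj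
  rw [range_f₁ tau cond scan conds, ← partners_inter] at h
  exact ⟨_, squares_nondeg 6, by rw [squares_det]; decide, h⟩

/-- The partners of the transposition. -/
abbrev P0 : Set G := {y : G | y ∈ D ∧ y ≠ t ∧ Commute t y}

theorem sample : tau 16 ∈ P0 ∧ tau 40 ∈ P0 ∧ ¬ Commute (tau 16) (tau 40) := by
  have h : ∀ c, c < 3510 → c ≠ 0 → Fi22U62.data.fwd [0] c = c → tau c ∈ P0 := fun c hc h0 h1 =>
    ⟨tau_mem hc, fun e => h0 (tau_inj hc (by decide) (e.trans tau_zero.symm)), (commute_t_iff hc).2 h1⟩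
  refine ⟨h 16 (by decide) (by decide) (by decide +kernel), h 40 (by decide) (by decide) (by decide +kernel),
    fun hcom => ?_⟩
  have e := hconj 0 (by decide) 40 (by decide)
  rw [show Pf 0 = 16 by decide +kernel, hcom.eq, mul_inv_cancel_right] at e
  have hne : mv 0 40 ≠ 40 := by decide +kernel
  exact hne (tau_inj (by decide +kernel) (by decide) e.symm)

theorem closure_partners : Subgroup.closure P0 = Fi22Trans.H := by
  have hH : ∀ x, x ∈ Fi22Trans.H ↔ x * t = t * x := fun x => by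
    rw [← Fi22Trans.centralizer_eq, Subgroup.mem_centralizer_singleton_iff]
  have hle : Subgroup.closure P0 ≤ Fi22Trans.H := by
    rw [Subgroup.closure_le]
    exact fun y hy => (hH y).2 hy.2.2.symm.eq
  let K : Subgroup Fi22Trans.H := (Subgroup.closure P0).subgroupOf Fi22Trans.H
  have hmap : ∀ g ∈ Fi22Trans.H, ∀ y ∈ P0, g * y * g⁻¹ ∈ P0 := by
    rintro g hg y ⟨hy, hne, hc⟩
    have hgt := (hH g).1 hg
    refine ⟨?_, fun e => hne ?_, ?_⟩
    · exact IsConj.trans hy (isConj_iff.2 ⟨g, rfl⟩)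
    · calc y = g⁻¹ * (g * y * g⁻¹) * g := by group
        _ = g⁻¹ * (t * g) := by rw [e, mul_assoc]
        _ = t := by rw [← hgt]; group
    · have := (Commute.conj_iff g).2 hc
      rwa [hgt, mul_inv_cancel_right] at this
  have hKn : K.Normal := ⟨fun x hx g => by
    rw [Subgroup.mem_subgroupOf] at hx ⊢
    simp only [Subgroup.coe_mul, Subgroup.coe_inv]
    generalize (x : G) = x₀ at hx ⊢
    induction hx using Subgroup.closure_induction with
    | mem y hy => exact Subgroup.subset_closure (hmap g g.2 y hy)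
    | one => simp
    | mul a b _ _ ha hb =>
      rw [show (g : G) * (a * b) * (g : G)⁻¹ = (g * a * (g : G)⁻¹) * (g * b * (g : G)⁻¹) by group]
      exact mul_mem ha hb
    | inv a _ ha =>
      rw [show (g : G) * a⁻¹ * (g : G)⁻¹ = (g * a * (g : G)⁻¹)⁻¹ by group]
      exact inv_mem ha⟩
  obtain ⟨h1, ⟨q⟩, hsplit⟩ := Fi22U62Iso.nonsplit_double
  have : IsSimpleGroup (Cfsg.PSU 6 Fi22U62Iso.K 2) :=
    Cfsg.Agent.S0283.result (Cfsg.Agent.ThreeTrans.SU32.F4.card_eq.trans (by norm_num)) 6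
      (by norm_num) (by norm_num)
  have : IsSimpleGroup (Fi22Trans.H ⧸ Subgroup.center Fi22Trans.H) :=
    (MulEquiv.isSimpleGroup_congr q).2 this
  refine le_antisymm hle fun x hx => ?_
  suffices hK : K = ⊤ by
    have := Subgroup.mem_top (⟨x, hx⟩ : Fi22Trans.H)
    rw [← hK, Subgroup.mem_subgroupOf] at this
    exact this
  rcases (hKn.map (QuotientGroup.mk' (Subgroup.center Fi22Trans.H))
      (QuotientGroup.mk'_surjective _)).eq_bot_or_eq_top with h | h
  · exfalso
    rw [Subgroup.map_eq_bot_iff, QuotientGroup.ker_mk'] at h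
    obtain ⟨hs, hs', hnc⟩ := sample
    have hc := Subgroup.mem_center_iff.1
      (h (show (⟨tau 16, hle (Subgroup.subset_closure hs)⟩ : Fi22Trans.H) ∈ K from
        Subgroup.mem_subgroupOf.2 (Subgroup.subset_closure hs))) ⟨tau 40, hle (Subgroup.subset_closure hs')⟩
    exact hnc (congrArg Subtype.val hc).symm
  · have hsup : K ⊔ Subgroup.center Fi22Trans.H = ⊤ := by
      have := congrArg (Subgroup.comap (QuotientGroup.mk' (Subgroup.center Fi22Trans.H))) h
      rwa [Subgroup.comap_map_eq, QuotientGroup.ker_mk', Subgroup.comap_top] at this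
    by_cases hZ : Subgroup.center Fi22Trans.H ≤ K
    · rwa [sup_eq_left.2 hZ] at hsup
    exfalso
    apply hsplit K
    have : Fact (Nat.card (Subgroup.center Fi22Trans.H)).Prime := ⟨h1 ▸ Nat.prime_two⟩
    have hinf : K.subgroupOf (Subgroup.center Fi22Trans.H) = ⊥ :=
      (Subgroup.eq_bot_or_eq_top_of_prime_card _).resolve_right fun e => hZ (Subgroup.subgroupOf_eq_top.1 e)
    refine Subgroup.isComplement'_of_disjoint_and_mul_eq_univ ?_ ?_
    · rw [Subgroup.subgroupOf_eq_bot] at hinf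
      exact hinf.symm
    · rw [← Subgroup.coe_mul_of_right_le_normalizer_left, sup_comm, hsup, Subgroup.coe_top]
      exact le_top.trans (Subgroup.normalizer_eq_top_iff.2 inferInstance).ge

theorem not_commute_rep1 :
    ¬ Commute t ((Fi22Trans.el Fi22Trans.rep1)⁻¹ * t * Fi22Trans.el Fi22Trans.rep1) := by
  intro h
  have h3 := (Fi22Trans.isId_iff _).1 Fi22Trans.rep_check.2.1
  have hne : Fi22Trans.el (Fi22Trans.prodWord Fi22Trans.rep1) ≠ 1 :=
    Fi22Trans.el_ne_one Fi22Trans.rep_check.2.2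
  apply hne
  have h3' : Fi22Trans.el (Fi22Trans.prodWord Fi22Trans.rep1) ^ 3 = 1 := by
    simpa only [Fi22Trans.el, ← FreeGroup.mul_mk, map_mul, pow_succ, pow_zero, one_mul] using h3
  rw [Fi22Trans.el_prodWord] at h3' ⊢
  generalize Fi22Trans.el Fi22Trans.rep1 = u at h h3' ⊢
  have h2 : (t * (u⁻¹ * t * u)) ^ 2 = 1 := by
    rw [h.mul_pow, pow_two, pow_two, Fi22Trans.t_sq, one_mul]
    calc u⁻¹ * t * u * (u⁻¹ * t * u) = u⁻¹ * (t * t) * u := by group
      _ = 1 := by rw [Fi22Trans.t_sq]; group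
  rw [pow_succ, h2, one_mul] at h3'
  exact h3'

theorem commute_rep0 :
    Commute t ((Fi22Trans.el Fi22Trans.rep0)⁻¹ * t * Fi22Trans.el Fi22Trans.rep0) := by
  rcases (Fi22Trans.pow_prod Fi22Trans.rep0 (List.mem_cons_self ..)).1 with h | h
  · rw [Fi22Trans.el_prodWord, pow_two] at h
    generalize Fi22Trans.el Fi22Trans.rep0 = u at h ⊢
    have hi : (u⁻¹ * t * u)⁻¹ = u⁻¹ * t * u := by
      rw [mul_inv_rev, mul_inv_rev, inv_inv, Fi22Trans.t_inv, mul_assoc]
    show t * (u⁻¹ * t * u) = u⁻¹ * t * u * t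
    rw [eq_inv_of_mul_eq_one_left h, mul_inv_rev, Fi22Trans.t_inv, hi]
  · exfalso
    have h3 : Fi22Trans.el (Fi22Trans.prodWord Fi22Trans.rep0) ^ 2 = 1 := by
      have := (Fi22Trans.isId_iff _).1 Fi22Trans.rep_check.1.1
      simpa only [Fi22Trans.el, ← FreeGroup.mul_mk, map_mul, pow_two] using this
    rw [pow_succ, h3, one_mul] at h
    exact Fi22Trans.el_ne_one Fi22Trans.rep_check.1.2 h

theorem rank_three {b : G} (hb : b ∈ D) (hbt : b ≠ t) :
    ∃ g, Commute g t ∧ ((Commute t b ∧ g * ((Fi22Trans.el Fi22Trans.rep0)⁻¹ * t *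
        Fi22Trans.el Fi22Trans.rep0) * g⁻¹ = b) ∨
      (¬ Commute t b ∧ g * ((Fi22Trans.el Fi22Trans.rep1)⁻¹ * t *
        Fi22Trans.el Fi22Trans.rep1) * g⁻¹ = b)) := by
  obtain ⟨z, rfl⟩ := isConj_iff.1 hb
  have hH : ∀ x ∈ Fi22Trans.H, x * t = t * x := fun x hx =>
    Subgroup.mem_centralizer_singleton_iff.1 (Fi22Trans.le_centralizer hx)
  rcases Fi22Trans.cases_conj z with h | ⟨h, hh, w, hw, e⟩
  · exact absurd (by rw [hH z h, mul_inv_cancel_right]) hbt
  refine ⟨h, hH h hh, ?_⟩
  rw [e]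
  have hconj : ∀ x, Commute t (h * x * h⁻¹) ↔ Commute t x := fun x => by
    conv_lhs => rw [show t = h * t * h⁻¹ by rw [hH h hh, mul_inv_cancel_right]]
    exact Commute.conj_iff h
  simp only [List.mem_cons, List.not_mem_nil, or_false] at hw
  rcases hw with rfl | rfl
  · exact Or.inl ⟨(hconj _).2 commute_rep0, rfl⟩
  · exact Or.inr ⟨fun hc => not_commute_rep1 ((hconj _).1 hc), rfl⟩

theorem primitive : Cfsg.IsPrimitiveUnderConj D := by
  have key : ∀ {b b' : G}, b ∈ D → b' ∈ D → b ≠ t → b' ≠ t → (Commute t b ↔ Commute t b') →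
      ∃ g, Commute g t ∧ g * b * g⁻¹ = b' := by
    intro b b' hb hb' n n' hiff
    obtain ⟨g, hg, hgb⟩ := rank_three hb n
    obtain ⟨g', hg', hgb'⟩ := rank_three hb' n'
    refine ⟨g' * g⁻¹, hg'.mul_left hg.inv_left, ?_⟩
    rcases hgb with ⟨hc, e⟩ | ⟨hc, e⟩ <;> rcases hgb' with ⟨hc', e'⟩ | ⟨hc', e'⟩
    · rw [← e, ← e']; group
    · exact absurd (hiff.1 hc) hc'
    · exact absurd (hiff.2 hc') hc
    · rw [← e, ← e']; group
  have h6 : tau 6 ∈ D ∧ Commute t (tau 6) ∧ tau 6 ≠ t ∧ ¬ Commute (tau 2) (tau 6) :=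
    ⟨tau_mem (by decide), (commute_t_iff (by decide)).2 (by decide +kernel),
      fun e => absurd (tau_inj (by decide) (by decide) (e.trans tau_zero.symm)) (by decide),
      fun h => absurd ((commute_t'_iff (by decide)).1 h) (by decide +kernel)⟩
  refine primitive_of_rank_three (mem_conjugatesOf_self) (fun d hd => isConj_iff.1 hd)
    (fun g d hd => hd.trans (isConj_iff.2 ⟨g, rfl⟩))
    (fun b hb b' hb' n n' c c' => key hb hb' n n' (iff_of_true c c'))
    (fun b hb b' hb' c c' => key hb hb' (fun e => c (e ▸ Commute.refl t))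
      (fun e => c' (e ▸ Commute.refl t)) (iff_of_false c c')) ?_ ?_
  · exact ⟨tau 16, sample.1.1, t', tau_mem (by decide), sample.1.2.1,
      ne_of_fwd (by decide) (by decide) (by decide), sample.1.2.2,
      (Commute.symm ((commute_t'_iff (by decide)).2 (by decide +kernel))), not_commute⟩
  · exact ⟨t', tau_mem (by decide), tau 6, h6.1, not_commute, h6.2.2.2, h6.2.1, h6.2.2.1⟩

theorem center_bot : Subgroup.center G = ⊥ := by
  have := Fi22Order.order_and_simple.1
  refine (Subgroup.Normal.eq_bot_or_eq_top inferInstance).resolve_right fun h => not_commute ?_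
  exact (Subgroup.mem_center_iff.1 (h ▸ Subgroup.mem_top t' : t' ∈ Subgroup.center G) t)

theorem isM22 : Cfsg.IsOfTypeM22 G D := by
  refine ⟨center_bot, t, mem_conjugatesOf_self, t', tau_mem (by decide), not_commute, ?_, 1,
    by decide, common_part⟩
  obtain ⟨-, ⟨q⟩, -⟩ := Fi22U62Iso.nonsplit_double
  exact ⟨Fi22U62Iso.K, inferInstance, inferInstance, Cfsg.Agent.ThreeTrans.SU32.F4.card_eq,
    ⟨(quotCenter (MulEquiv.subgroupCongr closure_partners)).trans q⟩⟩

end Cfsg.Agent.FischerTypes.F22
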