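import Cfsg.Agent.FischerTypes.Checks
import Cfsg.Agent.FischerTypes.Data23
import Cfsg.Agent.CosetCert.Fi23Index31671.Defs
import Cfsg.Agent.Fi23Out.Data

/-! Kernel checks of the subsystem of 351 transpositions in Fi23. -/

set_option Elab.async false
set_option maxRecDepth 100000
set_option autoImplicit false

namespace Cfsg.Agent.FischerTypes.F23

open Cfsg.Agent.CosetCert

/-- A listed element moves a point. -/
noncomputable def mv (j c : Nat) : Nat := Fi23Index31671.data.fwd (W.getD j []) c

/-- Other than two given points and commuting with both. -/
noncomputable def cond (c : Nat) : Bool :=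
  gate (Nat.beq (Fi23Index31671.data.fwd [7] c) c) (gate (Fi23Out.suborb1.testBit c) (!Nat.beq c 8006))

theorem scan : allFrom (okScan cond Pf srtf 351) 0 31671 = true := by decide +kernel

theorem conds : allFrom (okCond cond Pf 31671) 0 351 = true := by decide +kernel

theorem finds : allFrom (okFind Pf srtf 351) 0 351 = true := by decide +kernel

theorem reaches : allFrom (okReach Pf parf mv 8) 0 351 = true := by decide +kernel

theorem vecs : allFrom (okVec (squares 7).n (squares 7).qf Vf idxf) 0 351 = true := by decide +kernel

theorem steps :
    allFrom (okSteps (squares 7).n (squares 7).bil Pf Vf idxf mv 351 8) 0 351 = true := by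
  decide +kernel

theorem codes : allFrom (okCode (squares 7).n (squares 7).qf Vf idxf 351) 0 (3 ^ 7) = true := by
  decide +kernel

end Cfsg.Agent.FischerTypes.F23
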