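import Cfsg.Agent.Fi23Centralizer.Main

/-!
# Fi22 as the centraliser of a transposition of Fi23 modulo its centre, generator by generator
-/

set_option autoImplicit false
set_option maxRecDepth 100000

namespace Cfsg.Agent.FischerTypes

open Cfsg.Agent.CosetCert Cfsg.Agent.Fi23Centralizer Cfsg.Spor

theorem exists_iso23 : ∃ e : Cfsg.Spor.Fi22 ≃* H ⧸ Subgroup.center H,
    ∀ x, e (PresentedGroup.of x) = QuotientGroup.mk (hEl x) := by
  have : Finite (PresentedGroup rels23) := Fi23Order.card_bound.1
  have hr : ∀ r ∈ rels22,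
      FreeGroup.lift (fun x => QuotientGroup.mk' (Subgroup.center H) (hEl x)) r = 1 := by
    intro r hr
    have hcomp : FreeGroup.lift (fun x => QuotientGroup.mk' (Subgroup.center H) (hEl x)) =
        (QuotientGroup.mk' (Subgroup.center H)).comp (FreeGroup.lift hEl) :=
      FreeGroup.ext_hom _ _ fun x => by simp
    rw [hcomp, MonoidHom.comp_apply, QuotientGroup.mk'_apply, QuotientGroup.eq_one_iff]
    have hone : FreeGroup.map toGen r ∈ rels23 → FreeGroup.lift hEl r ∈ Subgroup.center H := by
      intro hm
      have : FreeGroup.lift hEl r = 1 := Subtype.ext (by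
        rw [lift_hEl]; exact PresentedGroup.one_of_mem hm)
      rw [this]
      exact one_mem _
    have hall : ∀ x : Fi22.Gen, x ∈ gens22 := fun x => by cases x <;> simp [gens22]
    rcases hr with ⟨x, -, y, -, rfl⟩ | hr
    · refine hone (Or.inl ⟨_, node_mem x (hall x), _, node_mem y (hall y), ?_⟩)
      rw [map_pow, map_mul, FreeGroup.map.of, FreeGroup.map.of, label_eq x (hall x) y (hall y)]
    · simp only [Set.mem_ofPred_eq, Fi22.extra, List.mem_cons, List.not_mem_nil, or_false] at hr
      rcases hr with rfl | rfl | rfl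
      · exact hone (Or.inr extra1_mem)
      · exact hone (Or.inr extra2_mem)
      · exact lift_center _ fun x => by rw [z_eq]; exact z_commute x
  let β : Cfsg.Spor.Fi22 →* H ⧸ Subgroup.center H := PresentedGroup.toGroup hr
  have hβ : ∀ x, β (PresentedGroup.of x) = QuotientGroup.mk (hEl x) := fun x =>
    PresentedGroup.toGroup.of hr
  have hsurj : Function.Surjective β := by
    rw [← MonoidHom.range_eq_top, eq_top_iff,
      ← Subgroup.map_top_of_surjective _ (QuotientGroup.mk'_surjective (Subgroup.center H)),
      ← closure_hEl, MonoidHom.map_closure, Subgroup.closure_le]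
    rintro _ ⟨_, ⟨x, rfl⟩, rfl⟩
    exact ⟨PresentedGroup.of x, hβ x⟩
  have hsimple : IsSimpleGroup Cfsg.Spor.Fi22 := Fi22Order.order_and_simple.1
  have hinj : Function.Injective β := by
    rcases β.normal_ker.eq_bot_or_eq_top with h | h
    · exact (MonoidHom.ker_eq_bot_iff _).1 h
    · exfalso
      refine ab_not_commute ?_
      have ha : hEl .a ∈ Subgroup.center H := by
        rw [← QuotientGroup.eq_one_iff]
        exact (hβ Fi22.Gen.a).symm.trans
          (MonoidHom.mem_ker.1 (h ▸ Subgroup.mem_top (PresentedGroup.of Fi22.Gen.a)))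
      exact (Subgroup.mem_center_iff.1 ha _).symm
  exact ⟨MulEquiv.ofBijective β ⟨hinj, hsurj⟩, hβ⟩

end Cfsg.Agent.FischerTypes
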