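import Cfsg.Agent.FischerTypes.M22
import Cfsg.Agent.FischerTypes.Down23
import Cfsg.Agent.FischerTypes.Check23
import Cfsg.Agent.Fi23Out.Tau
import Cfsg.Agent.CosetCert.Fi23Order.Main

/-!
# Fi23 with its transpositions is of type M(23)
-/

set_option autoImplicit false
set_option maxRecDepth 100000

namespace Cfsg.Agent.FischerTypes.F23

open Cfsg.Agent.CosetCert Cfsg.Agent.Fi23Out Cfsg.Agent.Fi23Centralizer

/-- The group. -/
abbrev G : Type := Fi23Out.G

/-- The class. -/
abbrev D : Set G := conjugatesOf z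

theorem exists_tau {g : G} (hg : g ∈ D) : ∃ c, c < 31671 ∧ tau c = g := by
  obtain ⟨u, rfl⟩ := isConj_iff.1 hg
  exact ⟨_, im_lt u (by decide), (conj_z_eq u).symm⟩

theorem tau_mem {c : Nat} (hc : c < 31671) : tau c ∈ D := by
  obtain ⟨g, rfl⟩ := exists_im hc
  exact isConj_iff.2 ⟨g, conj_z_eq g⟩

/-- Commuting with the transposition of the point `0`. -/
theorem H_comm {h : G} (hh : h ∈ Fi23Centralizer.H) : Commute h z := by
  have key : ∀ x, x < 10 → x ≠ 7 → Commute (gen x) z := fun x hx h7 => by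
    refine commute_z_of_fix ?_
    rw [im_gen hx (by decide)]
    revert h7
    interval_cases x <;> decide +kernel
  obtain ⟨s, hs, rfl⟩ := Subgroup.mem_map.1 hh
  clear hh
  induction hs using Subgroup.closure_induction with
  | mem s hs =>
    rw [Set.mem_ofPred_eq, subGens_eq] at hs
    obtain ⟨x, -, rfl⟩ := List.mem_map.1 hs
    obtain ⟨n, hn, hl⟩ := letter_surj (toGen x)
    have h7 : n ≠ 7 := by rintro rfl; revert hl; cases x <;> decide
    have := key n hn h7
    rw [gen, hl] at this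
    exact this
  | one => rw [map_one]; exact Commute.one_left _
  | mul a b _ _ ha hb => rw [map_mul]; exact ha.mul_left hb
  | inv a _ ha => rw [map_inv]; exact ha.inv_left

theorem gen_mem_H : ∀ x, x < 10 → x ≠ 7 → gen x ∈ Fi23Centralizer.H := by
  have key : ∀ y : Cfsg.Spor.Fi22.Gen, (PresentedGroup.of (toGen y) : G) ∈ Fi23Centralizer.H :=
    fun y => (hEl y).2
  intro x hx h7
  interval_cases x
  · exact key .a
  · exact key .b
  · exact key .c
  · exact key .d
  · exact key .e
  · exact key .f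
  · exact key .g
  · exact absurd rfl h7
  · exact key .h
  · exact key .i

theorem im_zero_of_mem {h : G} (hh : h ∈ Fi23Centralizer.H) : im h 0 = 0 := by
  refine tau_inj (im_lt h (by decide)) (by decide) ?_
  rw [← conj_tau h (by decide), tau_zero, (H_comm hh).eq, mul_inv_cancel_right]

theorem gw_mem_H : ∀ {w : List Nat}, (∀ x ∈ w, x < 10 ∧ x ≠ 7) → gw w ∈ Fi23Centralizer.H
  | [], _ => one_mem _
  | x :: w, h => mul_mem (gw_mem_H fun y hy => h y (List.mem_cons_of_mem _ hy))
      (gen_mem_H x (h x (List.mem_cons_self ..)).1 (h x (List.mem_cons_self ..)).2)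

theorem stepGens_letters : (stepGens0.all fun w => w.all fun x => Nat.blt x 10 && !Nat.beq x 7) = true := by
  decide +kernel

/-- The transpositions commuting with `z` are conjugate to `b` in the centraliser. -/
theorem exists_partner {c : Nat} (hc : suborb1.testBit c = true) :
    ∃ h ∈ Fi23Centralizer.H, im h (pt 1) = c := by
  rw [← Nat.eq_of_beq_eq_true suborb_reach] at hc
  refine reach_spec (Q := fun c => ∃ h ∈ Fi23Centralizer.H, im h (pt 1) = c) stepTree0 ?_ _ ?_ c hc
  · rintro g hg d ⟨h, hh, rfl⟩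
    have hl : ∀ x ∈ g, x < 10 ∧ x ≠ 7 := fun x hx => by
      have := List.all_eq_true.1 (List.all_eq_true.1 stepGens_letters g hg) x hx
      simp only [Bool.and_eq_true, Bool.not_eq_true'] at this
      exact ⟨Nat.blt_eq.mp this.1, fun e => by rw [e] at this; exact absurd this.2 (by decide)⟩
    refine ⟨gw g * h, mul_mem (gw_mem_H hl) hh, ?_⟩
    rw [im_mul, im_gw (fun x hx => (hl x hx).1) (im_lt _ (pt_lt 1 (by decide)))]
  · intro d hd
    change (1 <<< pt 1).testBit d = true at hd
    rw [Nat.one_shiftLeft, Nat.testBit_two_pow, decide_eq_true_iff] at hd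
    exact ⟨1, one_mem _, by rw [im_one, hd]⟩

/-- A stored suborbit is one orbit of the centraliser. -/
theorem exists_orbit_elem (O root : Nat) (Q : Nat → Nat)
    (hok : ∀ c, c < 31671 → Fi23Index31671.data.checkOrbit O root Q c = true) (hroot : root < 31671) :
    ∀ c, c < 31671 → O.testBit c = true → ∃ h ∈ Fi23Centralizer.H, im h root = c := by
  suffices ∀ d c, Q c / 33554432 = d → c < 31671 → O.testBit c = true →
      ∃ h ∈ Fi23Centralizer.H, im h root = c from fun c => this _ c rfl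
  intro d
  induction d using Nat.strong_induction_on with
  | _ d ih =>
    intro c hd hc hb
    have h1 := hok c hc
    simp only [Data.checkOrbit, hb, Bool.not_true, Bool.false_or, Bool.and_eq_true, Bool.or_eq_true,
      force_eq] at h1
    rcases h1.2 with h2 | ⟨hp, hpB, hlt, hk, hT⟩
    · exact ⟨1, one_mem _, by rw [im_one, Nat.eq_of_beq_eq_true h2]⟩
    · have hp' : Q c / 32 % 1048576 < 31671 := Nat.ble_eq.mp hp
      obtain ⟨h, hh, e⟩ := ih _ (hd ▸ Nat.ble_eq.mp hlt) _ rfl hp' hpB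
      have hmem : (Fi23Index31671.data.W.drop Fi23Index31671.data.nR).getD (Q c % 32) [] ∈
          Fi23Index31671.data.W.drop Fi23Index31671.data.nR := by
        rw [List.getD_eq_getElem _ _ (Nat.ble_eq.mp hk)]
        exact List.getElem_mem _
      generalize (Fi23Index31671.data.W.drop Fi23Index31671.data.nR).getD (Q c % 32) [] = w at hmem hT
      have hall : ((Fi23Index31671.data.W.drop Fi23Index31671.data.nR).all fun w =>
          w.all fun x => Nat.blt x 10 && !Nat.beq x 7) = true := by decide +kernel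
      have hl : ∀ x ∈ w, x < 10 ∧ x ≠ 7 := fun x hx => by
        have := List.all_eq_true.1 (List.all_eq_true.1 hall w hmem) x hx
        simp only [Bool.and_eq_true, Bool.not_eq_true'] at this
        exact ⟨Nat.blt_eq.mp this.1, fun e => by rw [e] at this; exact absurd this.2 (by decide)⟩
      refine ⟨gw w * h, mul_mem (gw_mem_H hl) hh, ?_⟩
      rw [im_mul, e, im_gw (fun x hx => (hl x hx).1) hp']
      exact Nat.eq_of_beq_eq_true hT

/-- The two orbits of the centraliser on the other transpositions. -/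
theorem rank_three {b : G} (hb : b ∈ D) (hbz : b ≠ z) :
    ∃ g, Commute g z ∧ ((Commute z b ∧ g * tau (pt 1) * g⁻¹ = b) ∨
      (¬ Commute z b ∧ g * tau (pt 7) * g⁻¹ = b)) := by
  obtain ⟨c, hc, rfl⟩ := exists_tau hb
  have hc0 : c ≠ 0 := fun e => hbz (by rw [e, tau_zero])
  by_cases hcom : Commute z (tau c)
  · have hF := (commute_z_iff hc).1 hcom
    rw [inF0, Bool.or_eq_true] at hF
    obtain ⟨h, hh, e⟩ := exists_partner (hF.resolve_left fun h => hc0 (Nat.eq_of_beq_eq_true h))
    exact ⟨h, H_comm hh, Or.inl ⟨hcom, by rw [conj_tau h (pt_lt 1 (by decide)), e]⟩⟩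
  · -- one orbit of noncommuting ones
    have key : ∀ d, d < 31671 → d ≠ 0 → ¬ Commute z (tau d) →
        ∀ o ∈ Fi23Order.suborbitList, o.set.testBit d = true →
          ∃ h ∈ Fi23Centralizer.H, im h o.root = d ∧ ¬ Commute z (tau o.root) := by
      intro d hd _ hnc o ho hbit
      obtain ⟨⟨hroot, -⟩, hok⟩ := Fi23Order.suborbits.ok o ho
      obtain ⟨h, hh, e⟩ := exists_orbit_elem o.set o.root o.back hok hroot d hd hbit
      refine ⟨h, hh, e, fun hr => hnc ?_⟩
      rw [← e, ← conj_tau h hroot]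
      conv_lhs => rw [show z = h * z * h⁻¹ by rw [(H_comm hh).eq, mul_inv_cancel_right]]
      exact (Commute.conj_iff h).2 hr
    have hp7 : ¬ Commute z (tau (pt 7)) := by
      rw [commute_z_iff (pt_lt 7 (by decide))]; decide +kernel
    rcases Fi23Order.suborbits.cover c hc with h | ⟨o, ho, hbit⟩
    · exact absurd h hc0
    rcases Fi23Order.suborbits.cover (pt 7) (pt_lt 7 (by decide)) with h7 | ⟨o', ho', hbit'⟩
    · exact absurd h7 (pt_ne_zero 7 (by decide))
    obtain ⟨h, hh, e, hnr⟩ := key c hc hc0 hcom o ho hbit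
    obtain ⟨h', hh', e', hnr'⟩ := key _ (pt_lt 7 (by decide)) (pt_ne_zero 7 (by decide)) hp7 o' ho' hbit'
    have hroots : o.root = o'.root := by
      simp only [Fi23Order.suborbitList, List.mem_cons, List.not_mem_nil, or_false] at ho ho'
      rcases ho with rfl | rfl <;> rcases ho' with rfl | rfl
      · rfl
      · rw [commute_z_iff (by decide)] at hnr hnr'
        revert hnr hnr'; decide +kernel
      · rw [commute_z_iff (by decide)] at hnr hnr'
        revert hnr hnr'; decide +kernel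
      · rfl
    refine ⟨h * h'⁻¹, (H_comm hh).mul_left (H_comm hh').inv_left, Or.inr ⟨hcom, ?_⟩⟩
    rw [conj_tau _ (pt_lt 7 (by decide)), im_mul, ← e', im_inv_im, ← hroots, e]

theorem z_mem : z ∈ D := mem_conjugatesOf_self

theorem pt_facts : Commute z (tau (pt 1)) ∧ ¬ Commute z (tau (pt 7)) ∧ Commute z (tau (pt 6)) ∧
    ¬ Commute (tau (pt 7)) (tau (pt 6)) := by
  refine ⟨?_, ?_, ?_, ?_⟩
  · rw [commute_z_iff (pt_lt 1 (by decide))]; decide +kernel
  · rw [commute_z_iff (pt_lt 7 (by decide))]; decide +kernel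
  · rw [commute_z_iff (pt_lt 6 (by decide))]; decide +kernel
  · rw [← gen_eq_tau 7 (by decide), commute_gen_iff (by decide) (pt_lt 6 (by decide))]; decide +kernel

theorem ne_z {c : Nat} (hc : c < 31671) (h : c ≠ 0) : tau c ≠ z :=
  fun e => h (tau_inj hc (by decide) (e.trans tau_zero.symm))

theorem primitive : Cfsg.IsPrimitiveUnderConj D := by
  obtain ⟨c1, n7, c6, n76⟩ := pt_facts
  have key : ∀ {b b' : G}, b ∈ D → b' ∈ D → b ≠ z → b' ≠ z → (Commute z b ↔ Commute z b') →
      ∃ g, Commute g z ∧ g * b * g⁻¹ = b' := by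
    intro b b' hb hb' n n' hiff
    obtain ⟨g, hg, hgb⟩ := rank_three hb n
    obtain ⟨g', hg', hgb'⟩ := rank_three hb' n'
    refine ⟨g' * g⁻¹, hg'.mul_left hg.inv_left, ?_⟩
    rcases hgb with ⟨hc, e⟩ | ⟨hc, e⟩ <;> rcases hgb' with ⟨hc', e'⟩ | ⟨hc', e'⟩
    · rw [← e, ← e']; group
    · exact absurd (hiff.1 hc) hc'
    · exact absurd (hiff.2 hc') hc
    · rw [← e, ← e']; group
  have h1 : Commute (tau (pt 1)) (tau (pt 7)) := by
    rw [← gen_eq_tau 1 (by decide), commute_gen_iff (by decide) (pt_lt 7 (by decide))]; decide +kernel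
  refine primitive_of_rank_three z_mem (fun d hd => isConj_iff.1 hd)
    (fun g d hd => hd.trans (isConj_iff.2 ⟨g, rfl⟩))
    (fun b hb b' hb' n n' c c' => key hb hb' n n' (iff_of_true c c'))
    (fun b hb b' hb' c c' => key hb hb' (fun e => c (e ▸ Commute.refl z))
      (fun e => c' (e ▸ Commute.refl z)) (iff_of_false c c')) ?_ ?_
  · exact ⟨tau (pt 1), tau_mem (pt_lt 1 (by decide)), tau (pt 7), tau_mem (pt_lt 7 (by decide)),
      ne_z (pt_lt 1 (by decide)) (pt_ne_zero 1 (by decide)),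
      fun e => absurd (pt_inj 7 (by decide) 1 (by decide)
        (tau_inj (pt_lt 7 (by decide)) (pt_lt 1 (by decide)) e)) (by decide), c1, h1, n7⟩
  · exact ⟨tau (pt 7), tau_mem (pt_lt 7 (by decide)), tau (pt 6), tau_mem (pt_lt 6 (by decide)), n7,
      n76, c6, ne_z (pt_lt 6 (by decide)) (pt_ne_zero 6 (by decide))⟩

theorem center_bot : Subgroup.center G = ⊥ := by
  rw [eq_bot_iff]
  intro g hg
  rw [Subgroup.mem_bot]
  refine eq_of_im fun c hc => ?_
  rw [im_one]
  refine tau_inj (im_lt g hc) hc ?_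
  rw [← conj_tau g hc, ← Subgroup.mem_center_iff.1 hg (tau c), mul_inv_cancel_right]

theorem cond_iff {c : Nat} : cond c = true ↔
    Fi23Index31671.data.fwd [7] c = c ∧ suborb1.testBit c = true ∧ c ≠ 8006 := by
  have hb : ∀ a b : Nat, Nat.beq a b = true ↔ a = b := fun a b =>
    ⟨Nat.eq_of_beq_eq_true, fun e => e ▸ Nat.beq_refl a⟩
  simp only [cond, gate_eq, Bool.and_eq_true, hb, Bool.not_eq_true', ne_eq, ← Bool.not_eq_true]

/-- The second transposition. -/
noncomputable abbrev t' : G := tau (pt 7)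

theorem fwd_single (x c : Nat) : Fi23Index31671.data.fwd [x] c = Fi23Index31671.data.T c x := by
  simp [Data.fwd_cons, Data.fwd_nil]

theorem zero_not_partner : suborb1.testBit 0 = false := by decide +kernel

theorem partners_inter :
    {y : G | y ∈ D ∧ y ≠ z ∧ Commute z y} ∩ {y : G | y ∈ D ∧ y ≠ t' ∧ Commute t' y} =
      tau '' {c | c < 31671 ∧ cond c = true} := by
  have e7 : pt 7 = 8006 := by decide +kernel
  ext y
  constructor
  · rintro ⟨⟨hy, h0, hc0⟩, -, h2, hc2⟩
    obtain ⟨c, hc, rfl⟩ := exists_tau hy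
    refine ⟨c, ⟨hc, cond_iff.2 ⟨?_, ?_, fun e => h2 (by rw [t', e7, e])⟩⟩, rfl⟩
    · rw [t', ← gen_eq_tau 7 (by decide), commute_gen_iff (by decide) hc] at hc2
      rwa [fwd_single]
    · have hF := (commute_z_iff hc).1 hc0
      rw [inF0, Bool.or_eq_true] at hF
      exact hF.resolve_left fun h => h0 (by rw [Nat.eq_of_beq_eq_true h, tau_zero])
  · rintro ⟨c, ⟨hc, h⟩, rfl⟩
    rw [cond_iff, fwd_single] at h
    obtain ⟨h7, hs, hne⟩ := h
    have hc0 : c ≠ 0 := by rintro rfl; rw [zero_not_partner] at hs; exact absurd hs (by decide)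
    refine ⟨⟨tau_mem hc, ne_z hc hc0, (commute_z_iff hc).2 (by rw [inF0, hs, Bool.or_true])⟩,
      tau_mem hc, fun e => hne ((tau_inj hc (pt_lt 7 (by decide)) e).trans e7), ?_⟩
    rw [t', ← gen_eq_tau 7 (by decide), commute_gen_iff (by decide) hc]
    exact h7

theorem verified : Verified (squares 7) Pf parf Vf idxf mv 31671 351 8 where
  le := by decide
  lt := fun _ hi => (cond_of conds hi).1
  inj := fun _ hi _ hj => point_inj finds hi hj
  reach := reaches
  vecs := vecs
  steps := steps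
  codes := codes

theorem hconj (j : Nat) (hj : j < 8) (c : Nat) (hc : c < 31671) :
    tau (Pf j) * tau c * (tau (Pf j))⁻¹ = tau (mv j c) := by
  obtain ⟨x, hx, hw, hp⟩ : ∃ x, x < 10 ∧ W.getD j [] = [x] ∧ Pf j = pt x := by
    interval_cases j <;>
      exact ⟨_, by decide, rfl, by decide +kernel⟩
  rw [mv, hw, fwd_single, hp, ← gen_eq_tau x hx, conj_tau _ hc, im_gen hx hc]

theorem common_part : Cfsg.IsProjReflectionGroupModThree
    (↥(Subgroup.closure ({y : G | y ∈ D ∧ y ≠ z ∧ Commute z y} ∩ {y : G | y ∈ D ∧ y ≠ t' ∧ Commute t' y})) ⧸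
      Subgroup.center ↥(Subgroup.closure ({y : G | y ∈ D ∧ y ≠ z ∧ Commute z y} ∩
        {y : G | y ∈ D ∧ y ≠ t' ∧ Commute t' y}))) 7 (-1) 1 := by
  have h := quot_iso verified tau (fun a ha b hb => tau_inj ha hb) hconj
  rw [range_f₁ tau cond scan conds, ← partners_inter] at h
  exact ⟨_, F22.squares_nondeg 7, by rw [F22.squares_det]; decide, h⟩

/-- The partners of `z`. -/
abbrev P0 : Set G := {y : G | y ∈ D ∧ y ≠ z ∧ Commute z y}

theorem mem_partners (y : G) : y ∈ P0 ↔ ∃ g ∈ Fi23Centralizer.H, g * gen 1 * g⁻¹ = y := by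
  rw [gen_eq_tau 1 (by decide)]
  constructor
  · rintro ⟨hy, h0, hc0⟩
    obtain ⟨c, hc, rfl⟩ := exists_tau hy
    have hF := (commute_z_iff hc).1 hc0
    rw [inF0, Bool.or_eq_true] at hF
    obtain ⟨h, hh, e⟩ := exists_partner
      (hF.resolve_left fun h => h0 (by rw [Nat.eq_of_beq_eq_true h, tau_zero]))
    exact ⟨h, hh, by rw [conj_tau h (pt_lt 1 (by decide)), e]⟩
  · rintro ⟨g, hg, rfl⟩
    have hgz := (H_comm hg).eq
    refine ⟨(tau_mem (pt_lt 1 (by decide))).trans (isConj_iff.2 ⟨g, rfl⟩), fun e => ?_, ?_⟩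
    · refine ne_z (pt_lt 1 (by decide)) (pt_ne_zero 1 (by decide)) ?_
      calc tau (pt 1) = g⁻¹ * (g * tau (pt 1) * g⁻¹) * g := by group
        _ = g⁻¹ * (z * g) := by rw [e, mul_assoc]
        _ = z := by rw [← hgz]; group
    · have := (Commute.conj_iff g).2 pt_facts.1
      rwa [hgz, mul_inv_cancel_right] at this

theorem closure_partners : Subgroup.closure P0 = Fi23Centralizer.H := by
  refine le_antisymm ?_ ?_
  · rw [Subgroup.closure_le]
    intro y hy
    obtain ⟨g, hg, rfl⟩ := (mem_partners y).1 hy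
    exact mul_mem (mul_mem hg (gen_mem_H 1 (by decide) (by decide))) (inv_mem hg)
  · have key : ∀ x, x < 10 → x ≠ 7 → gen x ∈ Subgroup.closure P0 := fun x hx h7 => by
      refine Subgroup.subset_closure ⟨?_, ?_, ?_⟩
      · rw [gen_eq_tau x hx]; exact tau_mem (pt_lt x hx)
      · rw [gen_eq_tau x hx]; exact ne_z (pt_lt x hx) (pt_ne_zero x hx)
      · exact (H_comm (gen_mem_H x hx h7)).symm
    intro h hh
    obtain ⟨s, hs, rfl⟩ := Subgroup.mem_map.1 hh
    clear hh
    induction hs using Subgroup.closure_induction with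
    | mem s hs =>
      rw [Set.mem_ofPred_eq, subGens_eq] at hs
      obtain ⟨x, -, rfl⟩ := List.mem_map.1 hs
      obtain ⟨n, hn, hl⟩ := letter_surj (toGen x)
      have h7 : n ≠ 7 := by rintro rfl; revert hl; cases x <;> decide
      have := key n hn h7
      rwa [gen, hl] at this
    | one => rw [map_one]; exact one_mem _
    | mul a b _ _ ha hb => rw [map_mul]; exact mul_mem ha hb
    | inv a _ ha => rw [map_inv]; exact inv_mem ha

theorem lower_part : Cfsg.IsOfTypeM22
    (↥(Subgroup.closure P0) ⧸ Subgroup.center ↥(Subgroup.closure P0))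
    ((QuotientGroup.mk : ↥(Subgroup.closure P0) → _) '' {x : ↥(Subgroup.closure P0) | (x : G) ∈ P0}) := by
  obtain ⟨e₀, he⟩ := exists_iso23
  obtain ⟨s, hs⟩ : ∃ s : Fi23Centralizer.H, s = hEl .b := ⟨_, rfl⟩
  have hb : e₀ (PresentedGroup.of Cfsg.Spor.Fi22.Gen.b) = QuotientGroup.mk s := hs ▸ he _
  have hclass : conjugatesOf (PresentedGroup.of Cfsg.Spor.Fi22.Gen.b : F22.G) = F22.D := by
    have hm : (PresentedGroup.of Cfsg.Spor.Fi22.Gen.b : F22.G) ∈ F22.D := by
      have h := F22.tau_mem (c := 2) (by decide)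
      rw [F22.tau_two] at h
      exact h
    exact (IsConj.conjugatesOf_eq hm).symm
  have himg := image_of_class e₀ hb (S := P0) (fun y => by
    rw [mem_partners y]
    subst hs
    exact Iff.rfl)
  rw [hclass] at himg
  have h22 := m22_transfer e₀ F22.isM22
  rw [himg] at h22
  have aux : ∀ K : Subgroup G, K = Subgroup.closure P0 →
      Cfsg.IsOfTypeM22 (K ⧸ Subgroup.center K) ((QuotientGroup.mk : K → _) '' {x | (x : G) ∈ P0}) →
      Cfsg.IsOfTypeM22 (↥(Subgroup.closure P0) ⧸ Subgroup.center ↥(Subgroup.closure P0))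
        ((QuotientGroup.mk : ↥(Subgroup.closure P0) → _) '' {x : ↥(Subgroup.closure P0) | (x : G) ∈ P0}) := by
    rintro K rfl h; exact h
  exact aux _ closure_partners.symm h22

theorem z_sq : z * z = 1 := by
  obtain ⟨k, hk⟩ := exists_im (pt_lt 1 (by decide))
  have h := conj_z_eq k
  rw [hk, ← gen_eq_tau 1 (by decide)] at h
  calc z * z = k⁻¹ * ((k * z * k⁻¹) * (k * z * k⁻¹)) * k := by group
    _ = 1 := by rw [h, gen_mul_self (by decide)]; group

theorem braid_zero : (gen 1 * gen 0) ^ 3 = 1 := by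
  have h := PresentedGroup.one_of_mem (rels := rels23)
    (x := (FreeGroup.of (letter 1) * FreeGroup.of (letter 0)) ^ 3)
    (Or.inl ⟨_, node_all _, _, node_all _, by
      rw [show Cfsg.Spor.coxLabel Cfsg.Spor.Fi23.edges (letter 1) (letter 0) = 3 by decide]⟩)
  rw [map_pow, map_mul] at h
  exact h

theorem isClass : Cfsg.IsThreeTranspositionClass D := by
  have hsq : ∀ d ∈ D, d * d = 1 := fun d hd => by
    obtain ⟨g, rfl⟩ := isConj_iff.1 hd
    calc g * z * g⁻¹ * (g * z * g⁻¹) = g * (z * z) * g⁻¹ := by group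
      _ = 1 := by rw [z_sq]; group
  obtain ⟨k, hk⟩ := exists_im (pt_lt 1 (by decide))
  have hk' : k * z * k⁻¹ = gen 1 := by rw [conj_z_eq, hk, gen_eq_tau 1 (by decide)]
  have g0 : gen 0 ∈ D := by rw [gen_eq_tau 0 (by decide)]; exact tau_mem (pt_lt 0 (by decide))
  let b1 : G := k⁻¹ * gen 0 * k
  have hb1 : b1 ∈ D := g0.trans (isConj_iff.2 ⟨k⁻¹, by simp [b1]⟩)
  have hb13 : (z * b1) ^ 3 = 1 := by
    rw [show z * b1 = k⁻¹ * (gen 1 * gen 0) * k⁻¹⁻¹ by rw [← hk']; simp only [b1]; group, conj_pow,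
      braid_zero]
    group
  have hnc : ¬ Commute z b1 := by
    intro h
    have := (Commute.conj_iff k).2 h
    rw [hk', show k * b1 * k⁻¹ = gen 0 by simp only [b1]; group, gen_eq_tau 0 (by decide),
      commute_gen_iff (by decide) (pt_lt 0 (by decide))] at this
    revert this
    decide +kernel
  have hne1 : b1 ≠ z := fun e => hnc (e ▸ Commute.refl z)
  have key : ∀ b ∈ D, (z * b) ^ 2 = 1 ∨ (z * b) ^ 3 = 1 := by
    intro b hb
    by_cases hc : Commute z b
    · left; rw [pow_two]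
      calc z * b * (z * b) = z * (b * z) * b := by group
        _ = z * z * (b * b) := by rw [← hc.eq]; group
        _ = 1 := by rw [z_sq, hsq b hb, mul_one]
    · right
      obtain ⟨g, hg, hgb⟩ := rank_three hb fun e => hc (e ▸ Commute.refl z)
      obtain ⟨g', hg', hgb'⟩ := rank_three hb1 hne1
      rcases hgb with ⟨h, -⟩ | ⟨-, e⟩
      · exact absurd h hc
      rcases hgb' with ⟨h, -⟩ | ⟨-, e'⟩
      · exact absurd h hnc
      have hu : Commute (g * g'⁻¹) z := hg.mul_left hg'.inv_left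
      have hub : z * b = (g * g'⁻¹) * (z * b1) * (g * g'⁻¹)⁻¹ := by
        calc z * b = z * ((g * g'⁻¹) * b1 * (g * g'⁻¹)⁻¹) := by rw [← e, ← e']; group
          _ = (z * (g * g'⁻¹)) * b1 * (g * g'⁻¹)⁻¹ := by group
          _ = _ := by rw [← hu.eq]; group
      rw [hub, conj_pow, hb13]
      group
  refine ⟨⟨fun d hd => ?_, fun d hd e he => ?_⟩, ⟨z, z_mem, rfl⟩, ?_⟩
  · refine orderOf_eq_prime (by rw [pow_two]; exact hsq d hd) fun h => ?_
    obtain ⟨g, rfl⟩ := isConj_iff.1 hd
    exact hnc (by rw [conj_eq_one_iff] at h; rw [h]; exact Commute.one_left _)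
  · obtain ⟨g, rfl⟩ := isConj_iff.1 hd
    have he' : g⁻¹ * e * g⁻¹⁻¹ ∈ D := he.trans (isConj_iff.2 ⟨g⁻¹, rfl⟩)
    rw [show g * z * g⁻¹ * e = g * (z * (g⁻¹ * e * g⁻¹⁻¹)) * g⁻¹ by group, conj_pow, conj_pow,
      conj_eq_one_iff, conj_eq_one_iff]
    exact key _ he'
  · rw [eq_top_iff, ← PresentedGroup.closure_range_of, Subgroup.closure_le]
    rintro _ ⟨a, rfl⟩
    obtain ⟨x, hx, rfl⟩ := letter_surj a
    refine Subgroup.subset_closure ?_
    show gen x ∈ D
    rw [gen_eq_tau x hx]
    exact tau_mem (pt_lt x hx)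

theorem isM23 : Cfsg.IsOfTypeM23 G D :=
  ⟨center_bot, z, z_mem, t', tau_mem (pt_lt 7 (by decide)), pt_facts.2.1, lower_part, 1, by decide,
    common_part⟩

end Cfsg.Agent.FischerTypes.F23
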