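import Cfsg.Agent.FischerTypes.Defs24

/-! Kernel checks of the subsystem of 3240 transpositions in Fi24. -/

set_option Elab.async false
set_option maxRecDepth 100000
set_option autoImplicit false

namespace Cfsg.Agent.FischerTypes.F24

open Cfsg.Agent.CosetCert

theorem conds : allFrom (okCond cond Pf 306936) 0 3240 = true := by decide +kernel

theorem finds : allFrom (okFind Pf srtf 3240) 0 3240 = true := by decide +kernel

theorem finds1 : allFrom (fun i => Nat.blt (find srtf 3240 (Pf i)) 1080) 0 1080 = true := by
  decide +kernel

theorem reaches : allFrom (okReach Pf parf mv 9) 0 1080 = true := by decide +kernel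

theorem reaches2 : allFrom (okReach Pf parf mv 10) 1081 2159 = true := by decide +kernel

theorem vecs : allFrom (okVec plusEight.n plusEight.qf Vf idxf) 0 1080 = true := by decide +kernel

theorem steps :
    allFrom (okSteps plusEight.n plusEight.bil Pf Vf idxf mv 1080 9) 0 1080 = true := by
  decide +kernel

theorem codes : allFrom (okCode plusEight.n plusEight.qf Vf idxf 1080) 0 (3 ^ 8) = true := by
  decide +kernel

theorem cols : allFrom okCol 0 3240 = true := by decide +kernel

theorem col_extra : colf 1080 = 1 := by decide +kernel

theorem tests_ok : testsB = true := by decide +kernel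

theorem stabs : allFrom okStab 1081 2159 = true := by decide +kernel

theorem certs : allFrom okCert 1 8 = true := by decide +kernel

theorem adjs : allFrom okAdj 1 8 = true := by decide +kernel

theorem frames : allFrom okFrame 0 8 = true := by decide +kernel

theorem frame_ok : (frame.all fun i => Nat.blt i 1080) = true ∧ frame.length % 2 = 0 := by decide +kernel

theorem moved_ok : Nat.blt moved 1080 = true ∧
    Nat.beq (mv 1 (mv 0 (Pf moved))) (Pf moved) = false := by decide +kernel

end Cfsg.Agent.FischerTypes.F24
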