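import Cfsg.Agent.FischerTypes.Defs24

/-! Generated: kernel checks that the list of points is complete. -/

set_option Elab.async false

namespace Cfsg.Agent.FischerTypes.F24

open Cfsg.Agent.CosetCert

theorem scanAt80000 : allFrom (okScan cond Pf srtf 3240) 80000 1000 = true := by decide +kernel

theorem scanAt81000 : allFrom (okScan cond Pf srtf 3240) 81000 1000 = true := by decide +kernel

theorem scanAt82000 : allFrom (okScan cond Pf srtf 3240) 82000 1000 = true := by decide +kernel

theorem scanAt83000 : allFrom (okScan cond Pf srtf 3240) 83000 1000 = true := by decide +kernel

theorem scanAt84000 : allFrom (okScan cond Pf srtf 3240) 84000 1000 = true := by decide +kernel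

theorem scanAt85000 : allFrom (okScan cond Pf srtf 3240) 85000 1000 = true := by decide +kernel

theorem scanAt86000 : allFrom (okScan cond Pf srtf 3240) 86000 1000 = true := by decide +kernel

theorem scanAt87000 : allFrom (okScan cond Pf srtf 3240) 87000 1000 = true := by decide +kernel

theorem scanAt88000 : allFrom (okScan cond Pf srtf 3240) 88000 1000 = true := by decide +kernel

theorem scanAt89000 : allFrom (okScan cond Pf srtf 3240) 89000 1000 = true := by decide +kernel

theorem scanAt90000 : allFrom (okScan cond Pf srtf 3240) 90000 1000 = true := by decide +kernel

theorem scanAt91000 : allFrom (okScan cond Pf srtf 3240) 91000 1000 = true := by decide +kernel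

theorem scanAt92000 : allFrom (okScan cond Pf srtf 3240) 92000 1000 = true := by decide +kernel

theorem scanAt93000 : allFrom (okScan cond Pf srtf 3240) 93000 1000 = true := by decide +kernel

theorem scanAt94000 : allFrom (okScan cond Pf srtf 3240) 94000 1000 = true := by decide +kernel

theorem scanAt95000 : allFrom (okScan cond Pf srtf 3240) 95000 1000 = true := by decide +kernel

theorem scanAt96000 : allFrom (okScan cond Pf srtf 3240) 96000 1000 = true := by decide +kernel

theorem scanAt97000 : allFrom (okScan cond Pf srtf 3240) 97000 1000 = true := by decide +kernel

theorem scanAt98000 : allFrom (okScan cond Pf srtf 3240) 98000 1000 = true := by decide +kernel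

theorem scanAt99000 : allFrom (okScan cond Pf srtf 3240) 99000 1000 = true := by decide +kernel

theorem scanAt100000 : allFrom (okScan cond Pf srtf 3240) 100000 1000 = true := by decide +kernel

theorem scanAt101000 : allFrom (okScan cond Pf srtf 3240) 101000 1000 = true := by decide +kernel

theorem scanAt102000 : allFrom (okScan cond Pf srtf 3240) 102000 1000 = true := by decide +kernel

theorem scanAt103000 : allFrom (okScan cond Pf srtf 3240) 103000 1000 = true := by decide +kernel

theorem scanAt104000 : allFrom (okScan cond Pf srtf 3240) 104000 1000 = true := by decide +kernel

theorem scanAt105000 : allFrom (okScan cond Pf srtf 3240) 105000 1000 = true := by decide +kernel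

theorem scanAt106000 : allFrom (okScan cond Pf srtf 3240) 106000 1000 = true := by decide +kernel

theorem scanAt107000 : allFrom (okScan cond Pf srtf 3240) 107000 1000 = true := by decide +kernel

theorem scanAt108000 : allFrom (okScan cond Pf srtf 3240) 108000 1000 = true := by decide +kernel

theorem scanAt109000 : allFrom (okScan cond Pf srtf 3240) 109000 1000 = true := by decide +kernel

theorem scanAt110000 : allFrom (okScan cond Pf srtf 3240) 110000 1000 = true := by decide +kernel

theorem scanAt111000 : allFrom (okScan cond Pf srtf 3240) 111000 1000 = true := by decide +kernel

theorem scanAt112000 : allFrom (okScan cond Pf srtf 3240) 112000 1000 = true := by decide +kernel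

theorem scanAt113000 : allFrom (okScan cond Pf srtf 3240) 113000 1000 = true := by decide +kernel

theorem scanAt114000 : allFrom (okScan cond Pf srtf 3240) 114000 1000 = true := by decide +kernel

theorem scanAt115000 : allFrom (okScan cond Pf srtf 3240) 115000 1000 = true := by decide +kernel

theorem scanAt116000 : allFrom (okScan cond Pf srtf 3240) 116000 1000 = true := by decide +kernel

theorem scanAt117000 : allFrom (okScan cond Pf srtf 3240) 117000 1000 = true := by decide +kernel

theorem scanAt118000 : allFrom (okScan cond Pf srtf 3240) 118000 1000 = true := by decide +kernel

theorem scanAt119000 : allFrom (okScan cond Pf srtf 3240) 119000 1000 = true := by decide +kernel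

theorem scanAt120000 : allFrom (okScan cond Pf srtf 3240) 120000 1000 = true := by decide +kernel

theorem scanAt121000 : allFrom (okScan cond Pf srtf 3240) 121000 1000 = true := by decide +kernel

theorem scanAt122000 : allFrom (okScan cond Pf srtf 3240) 122000 1000 = true := by decide +kernel

theorem scanAt123000 : allFrom (okScan cond Pf srtf 3240) 123000 1000 = true := by decide +kernel

theorem scanAt124000 : allFrom (okScan cond Pf srtf 3240) 124000 1000 = true := by decide +kernel

theorem scanAt125000 : allFrom (okScan cond Pf srtf 3240) 125000 1000 = true := by decide +kernel

theorem scanAt126000 : allFrom (okScan cond Pf srtf 3240) 126000 1000 = true := by decide +kernel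

theorem scanAt127000 : allFrom (okScan cond Pf srtf 3240) 127000 1000 = true := by decide +kernel

theorem scanAt128000 : allFrom (okScan cond Pf srtf 3240) 128000 1000 = true := by decide +kernel

theorem scanAt129000 : allFrom (okScan cond Pf srtf 3240) 129000 1000 = true := by decide +kernel

theorem scanAt130000 : allFrom (okScan cond Pf srtf 3240) 130000 1000 = true := by decide +kernel

theorem scanAt131000 : allFrom (okScan cond Pf srtf 3240) 131000 1000 = true := by decide +kernel

theorem scanAt132000 : allFrom (okScan cond Pf srtf 3240) 132000 1000 = true := by decide +kernel

theorem scanAt133000 : allFrom (okScan cond Pf srtf 3240) 133000 1000 = true := by decide +kernel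

theorem scanAt134000 : allFrom (okScan cond Pf srtf 3240) 134000 1000 = true := by decide +kernel

theorem scanAt135000 : allFrom (okScan cond Pf srtf 3240) 135000 1000 = true := by decide +kernel

theorem scanAt136000 : allFrom (okScan cond Pf srtf 3240) 136000 1000 = true := by decide +kernel

theorem scanAt137000 : allFrom (okScan cond Pf srtf 3240) 137000 1000 = true := by decide +kernel

theorem scanAt138000 : allFrom (okScan cond Pf srtf 3240) 138000 1000 = true := by decide +kernel

theorem scanAt139000 : allFrom (okScan cond Pf srtf 3240) 139000 1000 = true := by decide +kernel

theorem scanAt140000 : allFrom (okScan cond Pf srtf 3240) 140000 1000 = true := by decide +kernel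

theorem scanAt141000 : allFrom (okScan cond Pf srtf 3240) 141000 1000 = true := by decide +kernel

theorem scanAt142000 : allFrom (okScan cond Pf srtf 3240) 142000 1000 = true := by decide +kernel

theorem scanAt143000 : allFrom (okScan cond Pf srtf 3240) 143000 1000 = true := by decide +kernel

theorem scanAt144000 : allFrom (okScan cond Pf srtf 3240) 144000 1000 = true := by decide +kernel

theorem scanAt145000 : allFrom (okScan cond Pf srtf 3240) 145000 1000 = true := by decide +kernel

theorem scanAt146000 : allFrom (okScan cond Pf srtf 3240) 146000 1000 = true := by decide +kernel

theorem scanAt147000 : allFrom (okScan cond Pf srtf 3240) 147000 1000 = true := by decide +kernel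

theorem scanAt148000 : allFrom (okScan cond Pf srtf 3240) 148000 1000 = true := by decide +kernel

theorem scanAt149000 : allFrom (okScan cond Pf srtf 3240) 149000 1000 = true := by decide +kernel

theorem scanAt150000 : allFrom (okScan cond Pf srtf 3240) 150000 1000 = true := by decide +kernel

theorem scanAt151000 : allFrom (okScan cond Pf srtf 3240) 151000 1000 = true := by decide +kernel

theorem scanAt152000 : allFrom (okScan cond Pf srtf 3240) 152000 1000 = true := by decide +kernel

theorem scanAt153000 : allFrom (okScan cond Pf srtf 3240) 153000 1000 = true := by decide +kernel

theorem scanAt154000 : allFrom (okScan cond Pf srtf 3240) 154000 1000 = true := by decide +kernel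

theorem scanAt155000 : allFrom (okScan cond Pf srtf 3240) 155000 1000 = true := by decide +kernel

theorem scanAt156000 : allFrom (okScan cond Pf srtf 3240) 156000 1000 = true := by decide +kernel

theorem scanAt157000 : allFrom (okScan cond Pf srtf 3240) 157000 1000 = true := by decide +kernel

theorem scanAt158000 : allFrom (okScan cond Pf srtf 3240) 158000 1000 = true := by decide +kernel

theorem scanAt159000 : allFrom (okScan cond Pf srtf 3240) 159000 1000 = true := by decide +kernel

end Cfsg.Agent.FischerTypes.F24
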