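import Cfsg.Agent.FischerTypes.Defs24

/-! Generated: kernel checks that the list of points is complete. -/

set_option Elab.async false

namespace Cfsg.Agent.FischerTypes.F24

open Cfsg.Agent.CosetCert

theorem scanAt160000 : allFrom (okScan cond Pf srtf 3240) 160000 1000 = true := by decide +kernel

theorem scanAt161000 : allFrom (okScan cond Pf srtf 3240) 161000 1000 = true := by decide +kernel

theorem scanAt162000 : allFrom (okScan cond Pf srtf 3240) 162000 1000 = true := by decide +kernel

theorem scanAt163000 : allFrom (okScan cond Pf srtf 3240) 163000 1000 = true := by decide +kernel

theorem scanAt164000 : allFrom (okScan cond Pf srtf 3240) 164000 1000 = true := by decide +kernel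

theorem scanAt165000 : allFrom (okScan cond Pf srtf 3240) 165000 1000 = true := by decide +kernel

theorem scanAt166000 : allFrom (okScan cond Pf srtf 3240) 166000 1000 = true := by decide +kernel

theorem scanAt167000 : allFrom (okScan cond Pf srtf 3240) 167000 1000 = true := by decide +kernel

theorem scanAt168000 : allFrom (okScan cond Pf srtf 3240) 168000 1000 = true := by decide +kernel

theorem scanAt169000 : allFrom (okScan cond Pf srtf 3240) 169000 1000 = true := by decide +kernel

theorem scanAt170000 : allFrom (okScan cond Pf srtf 3240) 170000 1000 = true := by decide +kernel

theorem scanAt171000 : allFrom (okScan cond Pf srtf 3240) 171000 1000 = true := by decide +kernel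

theorem scanAt172000 : allFrom (okScan cond Pf srtf 3240) 172000 1000 = true := by decide +kernel

theorem scanAt173000 : allFrom (okScan cond Pf srtf 3240) 173000 1000 = true := by decide +kernel

theorem scanAt174000 : allFrom (okScan cond Pf srtf 3240) 174000 1000 = true := by decide +kernel

theorem scanAt175000 : allFrom (okScan cond Pf srtf 3240) 175000 1000 = true := by decide +kernel

theorem scanAt176000 : allFrom (okScan cond Pf srtf 3240) 176000 1000 = true := by decide +kernel

theorem scanAt177000 : allFrom (okScan cond Pf srtf 3240) 177000 1000 = true := by decide +kernel

theorem scanAt178000 : allFrom (okScan cond Pf srtf 3240) 178000 1000 = true := by decide +kernel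

theorem scanAt179000 : allFrom (okScan cond Pf srtf 3240) 179000 1000 = true := by decide +kernel

theorem scanAt180000 : allFrom (okScan cond Pf srtf 3240) 180000 1000 = true := by decide +kernel

theorem scanAt181000 : allFrom (okScan cond Pf srtf 3240) 181000 1000 = true := by decide +kernel

theorem scanAt182000 : allFrom (okScan cond Pf srtf 3240) 182000 1000 = true := by decide +kernel

theorem scanAt183000 : allFrom (okScan cond Pf srtf 3240) 183000 1000 = true := by decide +kernel

theorem scanAt184000 : allFrom (okScan cond Pf srtf 3240) 184000 1000 = true := by decide +kernel

theorem scanAt185000 : allFrom (okScan cond Pf srtf 3240) 185000 1000 = true := by decide +kernel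

theorem scanAt186000 : allFrom (okScan cond Pf srtf 3240) 186000 1000 = true := by decide +kernel

theorem scanAt187000 : allFrom (okScan cond Pf srtf 3240) 187000 1000 = true := by decide +kernel

theorem scanAt188000 : allFrom (okScan cond Pf srtf 3240) 188000 1000 = true := by decide +kernel

theorem scanAt189000 : allFrom (okScan cond Pf srtf 3240) 189000 1000 = true := by decide +kernel

theorem scanAt190000 : allFrom (okScan cond Pf srtf 3240) 190000 1000 = true := by decide +kernel

theorem scanAt191000 : allFrom (okScan cond Pf srtf 3240) 191000 1000 = true := by decide +kernel

theorem scanAt192000 : allFrom (okScan cond Pf srtf 3240) 192000 1000 = true := by decide +kernel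

theorem scanAt193000 : allFrom (okScan cond Pf srtf 3240) 193000 1000 = true := by decide +kernel

theorem scanAt194000 : allFrom (okScan cond Pf srtf 3240) 194000 1000 = true := by decide +kernel

theorem scanAt195000 : allFrom (okScan cond Pf srtf 3240) 195000 1000 = true := by decide +kernel

theorem scanAt196000 : allFrom (okScan cond Pf srtf 3240) 196000 1000 = true := by decide +kernel

theorem scanAt197000 : allFrom (okScan cond Pf srtf 3240) 197000 1000 = true := by decide +kernel

theorem scanAt198000 : allFrom (okScan cond Pf srtf 3240) 198000 1000 = true := by decide +kernel

theorem scanAt199000 : allFrom (okScan cond Pf srtf 3240) 199000 1000 = true := by decide +kernel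

theorem scanAt200000 : allFrom (okScan cond Pf srtf 3240) 200000 1000 = true := by decide +kernel

theorem scanAt201000 : allFrom (okScan cond Pf srtf 3240) 201000 1000 = true := by decide +kernel

theorem scanAt202000 : allFrom (okScan cond Pf srtf 3240) 202000 1000 = true := by decide +kernel

theorem scanAt203000 : allFrom (okScan cond Pf srtf 3240) 203000 1000 = true := by decide +kernel

theorem scanAt204000 : allFrom (okScan cond Pf srtf 3240) 204000 1000 = true := by decide +kernel

theorem scanAt205000 : allFrom (okScan cond Pf srtf 3240) 205000 1000 = true := by decide +kernel

theorem scanAt206000 : allFrom (okScan cond Pf srtf 3240) 206000 1000 = true := by decide +kernel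

theorem scanAt207000 : allFrom (okScan cond Pf srtf 3240) 207000 1000 = true := by decide +kernel

theorem scanAt208000 : allFrom (okScan cond Pf srtf 3240) 208000 1000 = true := by decide +kernel

theorem scanAt209000 : allFrom (okScan cond Pf srtf 3240) 209000 1000 = true := by decide +kernel

theorem scanAt210000 : allFrom (okScan cond Pf srtf 3240) 210000 1000 = true := by decide +kernel

theorem scanAt211000 : allFrom (okScan cond Pf srtf 3240) 211000 1000 = true := by decide +kernel

theorem scanAt212000 : allFrom (okScan cond Pf srtf 3240) 212000 1000 = true := by decide +kernel

theorem scanAt213000 : allFrom (okScan cond Pf srtf 3240) 213000 1000 = true := by decide +kernel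

theorem scanAt214000 : allFrom (okScan cond Pf srtf 3240) 214000 1000 = true := by decide +kernel

theorem scanAt215000 : allFrom (okScan cond Pf srtf 3240) 215000 1000 = true := by decide +kernel

theorem scanAt216000 : allFrom (okScan cond Pf srtf 3240) 216000 1000 = true := by decide +kernel

theorem scanAt217000 : allFrom (okScan cond Pf srtf 3240) 217000 1000 = true := by decide +kernel

theorem scanAt218000 : allFrom (okScan cond Pf srtf 3240) 218000 1000 = true := by decide +kernel

theorem scanAt219000 : allFrom (okScan cond Pf srtf 3240) 219000 1000 = true := by decide +kernel

theorem scanAt220000 : allFrom (okScan cond Pf srtf 3240) 220000 1000 = true := by decide +kernel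

theorem scanAt221000 : allFrom (okScan cond Pf srtf 3240) 221000 1000 = true := by decide +kernel

theorem scanAt222000 : allFrom (okScan cond Pf srtf 3240) 222000 1000 = true := by decide +kernel

theorem scanAt223000 : allFrom (okScan cond Pf srtf 3240) 223000 1000 = true := by decide +kernel

theorem scanAt224000 : allFrom (okScan cond Pf srtf 3240) 224000 1000 = true := by decide +kernel

theorem scanAt225000 : allFrom (okScan cond Pf srtf 3240) 225000 1000 = true := by decide +kernel

theorem scanAt226000 : allFrom (okScan cond Pf srtf 3240) 226000 1000 = true := by decide +kernel

theorem scanAt227000 : allFrom (okScan cond Pf srtf 3240) 227000 1000 = true := by decide +kernel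

theorem scanAt228000 : allFrom (okScan cond Pf srtf 3240) 228000 1000 = true := by decide +kernel

theorem scanAt229000 : allFrom (okScan cond Pf srtf 3240) 229000 1000 = true := by decide +kernel

theorem scanAt230000 : allFrom (okScan cond Pf srtf 3240) 230000 1000 = true := by decide +kernel

theorem scanAt231000 : allFrom (okScan cond Pf srtf 3240) 231000 1000 = true := by decide +kernel

theorem scanAt232000 : allFrom (okScan cond Pf srtf 3240) 232000 1000 = true := by decide +kernel

theorem scanAt233000 : allFrom (okScan cond Pf srtf 3240) 233000 1000 = true := by decide +kernel

theorem scanAt234000 : allFrom (okScan cond Pf srtf 3240) 234000 1000 = true := by decide +kernel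

theorem scanAt235000 : allFrom (okScan cond Pf srtf 3240) 235000 1000 = true := by decide +kernel

theorem scanAt236000 : allFrom (okScan cond Pf srtf 3240) 236000 1000 = true := by decide +kernel

theorem scanAt237000 : allFrom (okScan cond Pf srtf 3240) 237000 1000 = true := by decide +kernel

theorem scanAt238000 : allFrom (okScan cond Pf srtf 3240) 238000 1000 = true := by decide +kernel

theorem scanAt239000 : allFrom (okScan cond Pf srtf 3240) 239000 1000 = true := by decide +kernel

end Cfsg.Agent.FischerTypes.F24
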