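import Cfsg.Agent.FischerTypes.Defs24

/-! Generated: kernel checks that the list of points is complete. -/

set_option Elab.async false

namespace Cfsg.Agent.FischerTypes.F24

open Cfsg.Agent.CosetCert

theorem scanAt240000 : allFrom (okScan cond Pf srtf 3240) 240000 1000 = true := by decide +kernel

theorem scanAt241000 : allFrom (okScan cond Pf srtf 3240) 241000 1000 = true := by decide +kernel

theorem scanAt242000 : allFrom (okScan cond Pf srtf 3240) 242000 1000 = true := by decide +kernel

theorem scanAt243000 : allFrom (okScan cond Pf srtf 3240) 243000 1000 = true := by decide +kernel

theorem scanAt244000 : allFrom (okScan cond Pf srtf 3240) 244000 1000 = true := by decide +kernel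

theorem scanAt245000 : allFrom (okScan cond Pf srtf 3240) 245000 1000 = true := by decide +kernel

theorem scanAt246000 : allFrom (okScan cond Pf srtf 3240) 246000 1000 = true := by decide +kernel

theorem scanAt247000 : allFrom (okScan cond Pf srtf 3240) 247000 1000 = true := by decide +kernel

theorem scanAt248000 : allFrom (okScan cond Pf srtf 3240) 248000 1000 = true := by decide +kernel

theorem scanAt249000 : allFrom (okScan cond Pf srtf 3240) 249000 1000 = true := by decide +kernel

theorem scanAt250000 : allFrom (okScan cond Pf srtf 3240) 250000 1000 = true := by decide +kernel

theorem scanAt251000 : allFrom (okScan cond Pf srtf 3240) 251000 1000 = true := by decide +kernel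

theorem scanAt252000 : allFrom (okScan cond Pf srtf 3240) 252000 1000 = true := by decide +kernel

theorem scanAt253000 : allFrom (okScan cond Pf srtf 3240) 253000 1000 = true := by decide +kernel

theorem scanAt254000 : allFrom (okScan cond Pf srtf 3240) 254000 1000 = true := by decide +kernel

theorem scanAt255000 : allFrom (okScan cond Pf srtf 3240) 255000 1000 = true := by decide +kernel

theorem scanAt256000 : allFrom (okScan cond Pf srtf 3240) 256000 1000 = true := by decide +kernel

theorem scanAt257000 : allFrom (okScan cond Pf srtf 3240) 257000 1000 = true := by decide +kernel

theorem scanAt258000 : allFrom (okScan cond Pf srtf 3240) 258000 1000 = true := by decide +kernel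

theorem scanAt259000 : allFrom (okScan cond Pf srtf 3240) 259000 1000 = true := by decide +kernel

theorem scanAt260000 : allFrom (okScan cond Pf srtf 3240) 260000 1000 = true := by decide +kernel

theorem scanAt261000 : allFrom (okScan cond Pf srtf 3240) 261000 1000 = true := by decide +kernel

theorem scanAt262000 : allFrom (okScan cond Pf srtf 3240) 262000 1000 = true := by decide +kernel

theorem scanAt263000 : allFrom (okScan cond Pf srtf 3240) 263000 1000 = true := by decide +kernel

theorem scanAt264000 : allFrom (okScan cond Pf srtf 3240) 264000 1000 = true := by decide +kernel

theorem scanAt265000 : allFrom (okScan cond Pf srtf 3240) 265000 1000 = true := by decide +kernel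

theorem scanAt266000 : allFrom (okScan cond Pf srtf 3240) 266000 1000 = true := by decide +kernel

theorem scanAt267000 : allFrom (okScan cond Pf srtf 3240) 267000 1000 = true := by decide +kernel

theorem scanAt268000 : allFrom (okScan cond Pf srtf 3240) 268000 1000 = true := by decide +kernel

theorem scanAt269000 : allFrom (okScan cond Pf srtf 3240) 269000 1000 = true := by decide +kernel

theorem scanAt270000 : allFrom (okScan cond Pf srtf 3240) 270000 1000 = true := by decide +kernel

theorem scanAt271000 : allFrom (okScan cond Pf srtf 3240) 271000 1000 = true := by decide +kernel

theorem scanAt272000 : allFrom (okScan cond Pf srtf 3240) 272000 1000 = true := by decide +kernel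

theorem scanAt273000 : allFrom (okScan cond Pf srtf 3240) 273000 1000 = true := by decide +kernel

theorem scanAt274000 : allFrom (okScan cond Pf srtf 3240) 274000 1000 = true := by decide +kernel

theorem scanAt275000 : allFrom (okScan cond Pf srtf 3240) 275000 1000 = true := by decide +kernel

theorem scanAt276000 : allFrom (okScan cond Pf srtf 3240) 276000 1000 = true := by decide +kernel

theorem scanAt277000 : allFrom (okScan cond Pf srtf 3240) 277000 1000 = true := by decide +kernel

theorem scanAt278000 : allFrom (okScan cond Pf srtf 3240) 278000 1000 = true := by decide +kernel

theorem scanAt279000 : allFrom (okScan cond Pf srtf 3240) 279000 1000 = true := by decide +kernel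

theorem scanAt280000 : allFrom (okScan cond Pf srtf 3240) 280000 1000 = true := by decide +kernel

theorem scanAt281000 : allFrom (okScan cond Pf srtf 3240) 281000 1000 = true := by decide +kernel

theorem scanAt282000 : allFrom (okScan cond Pf srtf 3240) 282000 1000 = true := by decide +kernel

theorem scanAt283000 : allFrom (okScan cond Pf srtf 3240) 283000 1000 = true := by decide +kernel

theorem scanAt284000 : allFrom (okScan cond Pf srtf 3240) 284000 1000 = true := by decide +kernel

theorem scanAt285000 : allFrom (okScan cond Pf srtf 3240) 285000 1000 = true := by decide +kernel

theorem scanAt286000 : allFrom (okScan cond Pf srtf 3240) 286000 1000 = true := by decide +kernel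

theorem scanAt287000 : allFrom (okScan cond Pf srtf 3240) 287000 1000 = true := by decide +kernel

theorem scanAt288000 : allFrom (okScan cond Pf srtf 3240) 288000 1000 = true := by decide +kernel

theorem scanAt289000 : allFrom (okScan cond Pf srtf 3240) 289000 1000 = true := by decide +kernel

theorem scanAt290000 : allFrom (okScan cond Pf srtf 3240) 290000 1000 = true := by decide +kernel

theorem scanAt291000 : allFrom (okScan cond Pf srtf 3240) 291000 1000 = true := by decide +kernel

theorem scanAt292000 : allFrom (okScan cond Pf srtf 3240) 292000 1000 = true := by decide +kernel

theorem scanAt293000 : allFrom (okScan cond Pf srtf 3240) 293000 1000 = true := by decide +kernel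

theorem scanAt294000 : allFrom (okScan cond Pf srtf 3240) 294000 1000 = true := by decide +kernel

theorem scanAt295000 : allFrom (okScan cond Pf srtf 3240) 295000 1000 = true := by decide +kernel

theorem scanAt296000 : allFrom (okScan cond Pf srtf 3240) 296000 1000 = true := by decide +kernel

theorem scanAt297000 : allFrom (okScan cond Pf srtf 3240) 297000 1000 = true := by decide +kernel

theorem scanAt298000 : allFrom (okScan cond Pf srtf 3240) 298000 1000 = true := by decide +kernel

theorem scanAt299000 : allFrom (okScan cond Pf srtf 3240) 299000 1000 = true := by decide +kernel

theorem scanAt300000 : allFrom (okScan cond Pf srtf 3240) 300000 1000 = true := by decide +kernel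

theorem scanAt301000 : allFrom (okScan cond Pf srtf 3240) 301000 1000 = true := by decide +kernel

theorem scanAt302000 : allFrom (okScan cond Pf srtf 3240) 302000 1000 = true := by decide +kernel

theorem scanAt303000 : allFrom (okScan cond Pf srtf 3240) 303000 1000 = true := by decide +kernel

theorem scanAt304000 : allFrom (okScan cond Pf srtf 3240) 304000 1000 = true := by decide +kernel

theorem scanAt305000 : allFrom (okScan cond Pf srtf 3240) 305000 1000 = true := by decide +kernel

theorem scanAt306000 : allFrom (okScan cond Pf srtf 3240) 306000 936 = true := by decide +kernel

end Cfsg.Agent.FischerTypes.F24
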