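import Cfsg.Agent.FischerTypes.Defs24

/-! Generated: kernel checks that the list of points is complete. -/

set_option Elab.async false

namespace Cfsg.Agent.FischerTypes.F24

open Cfsg.Agent.CosetCert

theorem scanAt0 : allFrom (okScan cond Pf srtf 3240) 0 1000 = true := by decide +kernel

theorem scanAt1000 : allFrom (okScan cond Pf srtf 3240) 1000 1000 = true := by decide +kernel

theorem scanAt2000 : allFrom (okScan cond Pf srtf 3240) 2000 1000 = true := by decide +kernel

theorem scanAt3000 : allFrom (okScan cond Pf srtf 3240) 3000 1000 = true := by decide +kernel

theorem scanAt4000 : allFrom (okScan cond Pf srtf 3240) 4000 1000 = true := by decide +kernel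

theorem scanAt5000 : allFrom (okScan cond Pf srtf 3240) 5000 1000 = true := by decide +kernel

theorem scanAt6000 : allFrom (okScan cond Pf srtf 3240) 6000 1000 = true := by decide +kernel

theorem scanAt7000 : allFrom (okScan cond Pf srtf 3240) 7000 1000 = true := by decide +kernel

theorem scanAt8000 : allFrom (okScan cond Pf srtf 3240) 8000 1000 = true := by decide +kernel

theorem scanAt9000 : allFrom (okScan cond Pf srtf 3240) 9000 1000 = true := by decide +kernel

theorem scanAt10000 : allFrom (okScan cond Pf srtf 3240) 10000 1000 = true := by decide +kernel

theorem scanAt11000 : allFrom (okScan cond Pf srtf 3240) 11000 1000 = true := by decide +kernel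

theorem scanAt12000 : allFrom (okScan cond Pf srtf 3240) 12000 1000 = true := by decide +kernel

theorem scanAt13000 : allFrom (okScan cond Pf srtf 3240) 13000 1000 = true := by decide +kernel

theorem scanAt14000 : allFrom (okScan cond Pf srtf 3240) 14000 1000 = true := by decide +kernel

theorem scanAt15000 : allFrom (okScan cond Pf srtf 3240) 15000 1000 = true := by decide +kernel

theorem scanAt16000 : allFrom (okScan cond Pf srtf 3240) 16000 1000 = true := by decide +kernel

theorem scanAt17000 : allFrom (okScan cond Pf srtf 3240) 17000 1000 = true := by decide +kernel

theorem scanAt18000 : allFrom (okScan cond Pf srtf 3240) 18000 1000 = true := by decide +kernel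

theorem scanAt19000 : allFrom (okScan cond Pf srtf 3240) 19000 1000 = true := by decide +kernel

theorem scanAt20000 : allFrom (okScan cond Pf srtf 3240) 20000 1000 = true := by decide +kernel

theorem scanAt21000 : allFrom (okScan cond Pf srtf 3240) 21000 1000 = true := by decide +kernel

theorem scanAt22000 : allFrom (okScan cond Pf srtf 3240) 22000 1000 = true := by decide +kernel

theorem scanAt23000 : allFrom (okScan cond Pf srtf 3240) 23000 1000 = true := by decide +kernel

theorem scanAt24000 : allFrom (okScan cond Pf srtf 3240) 24000 1000 = true := by decide +kernel

theorem scanAt25000 : allFrom (okScan cond Pf srtf 3240) 25000 1000 = true := by decide +kernel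

theorem scanAt26000 : allFrom (okScan cond Pf srtf 3240) 26000 1000 = true := by decide +kernel

theorem scanAt27000 : allFrom (okScan cond Pf srtf 3240) 27000 1000 = true := by decide +kernel

theorem scanAt28000 : allFrom (okScan cond Pf srtf 3240) 28000 1000 = true := by decide +kernel

theorem scanAt29000 : allFrom (okScan cond Pf srtf 3240) 29000 1000 = true := by decide +kernel

theorem scanAt30000 : allFrom (okScan cond Pf srtf 3240) 30000 1000 = true := by decide +kernel

theorem scanAt31000 : allFrom (okScan cond Pf srtf 3240) 31000 1000 = true := by decide +kernel

theorem scanAt32000 : allFrom (okScan cond Pf srtf 3240) 32000 1000 = true := by decide +kernel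

theorem scanAt33000 : allFrom (okScan cond Pf srtf 3240) 33000 1000 = true := by decide +kernel

theorem scanAt34000 : allFrom (okScan cond Pf srtf 3240) 34000 1000 = true := by decide +kernel

theorem scanAt35000 : allFrom (okScan cond Pf srtf 3240) 35000 1000 = true := by decide +kernel

theorem scanAt36000 : allFrom (okScan cond Pf srtf 3240) 36000 1000 = true := by decide +kernel

theorem scanAt37000 : allFrom (okScan cond Pf srtf 3240) 37000 1000 = true := by decide +kernel

theorem scanAt38000 : allFrom (okScan cond Pf srtf 3240) 38000 1000 = true := by decide +kernel

theorem scanAt39000 : allFrom (okScan cond Pf srtf 3240) 39000 1000 = true := by decide +kernel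

theorem scanAt40000 : allFrom (okScan cond Pf srtf 3240) 40000 1000 = true := by decide +kernel

theorem scanAt41000 : allFrom (okScan cond Pf srtf 3240) 41000 1000 = true := by decide +kernel

theorem scanAt42000 : allFrom (okScan cond Pf srtf 3240) 42000 1000 = true := by decide +kernel

theorem scanAt43000 : allFrom (okScan cond Pf srtf 3240) 43000 1000 = true := by decide +kernel

theorem scanAt44000 : allFrom (okScan cond Pf srtf 3240) 44000 1000 = true := by decide +kernel

theorem scanAt45000 : allFrom (okScan cond Pf srtf 3240) 45000 1000 = true := by decide +kernel

theorem scanAt46000 : allFrom (okScan cond Pf srtf 3240) 46000 1000 = true := by decide +kernel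

theorem scanAt47000 : allFrom (okScan cond Pf srtf 3240) 47000 1000 = true := by decide +kernel

theorem scanAt48000 : allFrom (okScan cond Pf srtf 3240) 48000 1000 = true := by decide +kernel

theorem scanAt49000 : allFrom (okScan cond Pf srtf 3240) 49000 1000 = true := by decide +kernel

theorem scanAt50000 : allFrom (okScan cond Pf srtf 3240) 50000 1000 = true := by decide +kernel

theorem scanAt51000 : allFrom (okScan cond Pf srtf 3240) 51000 1000 = true := by decide +kernel

theorem scanAt52000 : allFrom (okScan cond Pf srtf 3240) 52000 1000 = true := by decide +kernel

theorem scanAt53000 : allFrom (okScan cond Pf srtf 3240) 53000 1000 = true := by decide +kernel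

theorem scanAt54000 : allFrom (okScan cond Pf srtf 3240) 54000 1000 = true := by decide +kernel

theorem scanAt55000 : allFrom (okScan cond Pf srtf 3240) 55000 1000 = true := by decide +kernel

theorem scanAt56000 : allFrom (okScan cond Pf srtf 3240) 56000 1000 = true := by decide +kernel

theorem scanAt57000 : allFrom (okScan cond Pf srtf 3240) 57000 1000 = true := by decide +kernel

theorem scanAt58000 : allFrom (okScan cond Pf srtf 3240) 58000 1000 = true := by decide +kernel

theorem scanAt59000 : allFrom (okScan cond Pf srtf 3240) 59000 1000 = true := by decide +kernel

theorem scanAt60000 : allFrom (okScan cond Pf srtf 3240) 60000 1000 = true := by decide +kernel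

theorem scanAt61000 : allFrom (okScan cond Pf srtf 3240) 61000 1000 = true := by decide +kernel

theorem scanAt62000 : allFrom (okScan cond Pf srtf 3240) 62000 1000 = true := by decide +kernel

theorem scanAt63000 : allFrom (okScan cond Pf srtf 3240) 63000 1000 = true := by decide +kernel

theorem scanAt64000 : allFrom (okScan cond Pf srtf 3240) 64000 1000 = true := by decide +kernel

theorem scanAt65000 : allFrom (okScan cond Pf srtf 3240) 65000 1000 = true := by decide +kernel

theorem scanAt66000 : allFrom (okScan cond Pf srtf 3240) 66000 1000 = true := by decide +kernel

theorem scanAt67000 : allFrom (okScan cond Pf srtf 3240) 67000 1000 = true := by decide +kernel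

theorem scanAt68000 : allFrom (okScan cond Pf srtf 3240) 68000 1000 = true := by decide +kernel

theorem scanAt69000 : allFrom (okScan cond Pf srtf 3240) 69000 1000 = true := by decide +kernel

theorem scanAt70000 : allFrom (okScan cond Pf srtf 3240) 70000 1000 = true := by decide +kernel

theorem scanAt71000 : allFrom (okScan cond Pf srtf 3240) 71000 1000 = true := by decide +kernel

theorem scanAt72000 : allFrom (okScan cond Pf srtf 3240) 72000 1000 = true := by decide +kernel

theorem scanAt73000 : allFrom (okScan cond Pf srtf 3240) 73000 1000 = true := by decide +kernel

theorem scanAt74000 : allFrom (okScan cond Pf srtf 3240) 74000 1000 = true := by decide +kernel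

theorem scanAt75000 : allFrom (okScan cond Pf srtf 3240) 75000 1000 = true := by decide +kernel

theorem scanAt76000 : allFrom (okScan cond Pf srtf 3240) 76000 1000 = true := by decide +kernel

theorem scanAt77000 : allFrom (okScan cond Pf srtf 3240) 77000 1000 = true := by decide +kernel

theorem scanAt78000 : allFrom (okScan cond Pf srtf 3240) 78000 1000 = true := by decide +kernel

theorem scanAt79000 : allFrom (okScan cond Pf srtf 3240) 79000 1000 = true := by decide +kernel

end Cfsg.Agent.FischerTypes.F24
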