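import Cfsg.Agent.FischerTypes.Checks
import Cfsg.Agent.FischerTypes.Data24
import Cfsg.Agent.CosetCert.Fi24Index.Defs

/-!
# Programs for the subsystem of 3240 transpositions in Fi24
-/

set_option autoImplicit false

namespace Cfsg.Agent.FischerTypes.F24

open Cfsg.Agent.CosetCert

/-- The action of a word. -/
noncomputable abbrev fw (w : List Nat) (c : Nat) : Nat := Fi24Index.data.fwd w c

/-- A listed element moves a point. -/
noncomputable def mv (j c : Nat) : Nat := fw (W.getD j []) c

/-- Other than two given points and commuting with both. -/
noncomputable def cond (c : Nat) : Bool :=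
  gate (Nat.beq (fw [11] c) c) (gate (Nat.beq (fw [0] c) c)
    (gate (!Nat.beq c 0) (!Nat.beq c 3)))

/-- The permutation of the three classes by a listed element. -/
noncomputable def swp (j a : Nat) : Nat :=
  Bool.rec (motive := fun _ => Nat) ((3 - a) % 3) ((2 + 2 * a) % 3) (Nat.beq j 9)

/-- The listed elements move the classes rightly; the first class is what is listed first. -/
noncomputable def okCol (i : Nat) : Bool :=
  force (colf i) fun a => gate (Nat.blt a 3) (gate (Nat.beq a 0 == Nat.blt i 1080)
    (allFrom (fun j => force (mv j (Pf i)) fun c => force (find srtf 3240 c) fun k =>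
      gate (Nat.blt k 3240) (gate (Nat.beq (Pf k) c) (Nat.beq (colf k) (swp j a)))) 0 10))

/-- An even word in the nodes of the subsystem. -/
noncomputable def evenB (w : List Nat) : Bool :=
  Nat.beq (w.length % 2) 0 && w.all fun x => Nat.ble 2 x && Nat.blt x 11

/-- The tests fix the extra point. -/
noncomputable def testsB : Bool :=
  tests.all fun w => evenB w && Nat.beq (fw w (Pf 1080)) (Pf 1080)

/-- The tests move any other point. -/
noncomputable def okStab (r : Nat) : Bool :=
  force (Pf r) fun p => tests.any fun w => !Nat.beq (fw w p) p

/-- The word of the conjugate by the extra element of a product with the first node. -/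
def target (j : Nat) : List Nat := W.getD 9 [] ++ (W.getD 0 [] ++ (W.getD j [] ++ W.getD 9 []))

/-- The listed words act as those conjugates on the generators. -/
noncomputable def okCert (j : Nat) : Bool :=
  evenB (cert.getD (j - 1) []) &&
    ([0, 1, 2, 3, 4, 5, 6, 7, 8, 1080] : List Nat).all fun i =>
      force (Pf i) fun p => Nat.beq (fw (cert.getD (j - 1) []) p) (fw (target j) p)

/-- A node is a conjugate of an earlier one. -/
noncomputable def okAdj (j : Nat) : Bool :=
  force (adj.getD j 0) fun i => Nat.blt i j && Nat.beq (mv i (mv j (Pf i))) (Pf j)

/-- Applying reflections to a code. -/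
noncomputable def reflects (L : List Nat) (c : Nat) : Nat :=
  List.rec (motive := fun _ => Nat → Nat) (fun c => c)
    (fun i _ ih c => force (Vf i) fun u => force (2 * (plusEight.bil c u % 3)) fun t =>
      force (addMul 8 c t u) ih) L c

/-- The product of the reflections of the frame negates each unit vector. -/
noncomputable def okFrame (k : Nat) : Bool :=
  Nat.beq (reflects frame (3 ^ k)) (negCode 8 (3 ^ k))

end Cfsg.Agent.FischerTypes.F24
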