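import Cfsg.Agent.FischerTypes.Group24

/-!
# The even part of the first class, and the action on the three classes
-/

set_option autoImplicit false
set_option maxRecDepth 100000

namespace Cfsg.Agent.FischerTypes.F24

open Cfsg.Agent.CosetCert

/-- Modulo the centre. -/
abbrev Q0 : Type := LS ⧸ Subgroup.center LS

/-- The class of a point. -/
noncomputable def colF (i : Nat) : Fin 3 := ⟨colf i % 3, Nat.mod_lt _ (by norm_num)⟩

/-- The permutation of the classes by a listed element. -/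
def sigma (j : Nat) : Equiv.Perm (Fin 3) := if j = 9 then Equiv.swap 0 2 else Equiv.swap 1 2

theorem col_step {i j : Nat} (hi : i < 3240) (hj : j < 10) :
    ∃ k < 3240, ge j * tau (Pf i) * (ge j)⁻¹ = tau (Pf k) ∧ colF k = sigma j (colF i) := by
  have h := all_of _ cols hi
  simp only [okCol, force_eq, gate_eq, Bool.and_eq_true] at h
  obtain ⟨ha, -, hall⟩ := h
  have h := all_of _ hall hj
  simp only [force_eq, gate_eq, Bool.and_eq_true] at h
  obtain ⟨hk, hP, hc⟩ := h
  refine ⟨_, Nat.blt_eq.mp hk, (ge_conj hj (P_lt hi)).trans (congrArg tau (Nat.eq_of_beq_eq_true hP).symm), ?_⟩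
  have hlt := Nat.blt_eq.mp ha
  have key : ∀ a, a < 3 → ∀ j, j < 10 →
      (⟨swp j a % 3, Nat.mod_lt _ (by norm_num)⟩ : Fin 3) = sigma j ⟨a % 3, Nat.mod_lt _ (by norm_num)⟩ := by
    decide +kernel
  rw [colF, colF]
  simp only [Nat.eq_of_beq_eq_true hc]
  exact key _ hlt j hj

theorem col_zero_iff {i : Nat} (hi : i < 3240) : colF i = 0 ↔ i < 1080 := by
  have h := all_of _ cols hi
  simp only [okCol, force_eq, gate_eq, Bool.and_eq_true] at h
  obtain ⟨ha, hz, -⟩ := h
  have hlt := Nat.blt_eq.mp ha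
  rw [beq_iff_eq] at hz
  constructor
  · intro e
    have : colf i % 3 = 0 := congrArg Fin.val e
    rw [Nat.mod_eq_of_lt hlt] at this
    rw [this] at hz
    exact Nat.blt_eq.mp hz.symm
  · intro e
    rw [Nat.blt_eq.mpr e] at hz
    have : colf i = 0 := Nat.eq_of_beq_eq_true hz
    exact Fin.ext (by rw [colF]; simp [this])

/-- The element permutes the points, and their classes by the permutation. -/
def Moves (p : G × Equiv.Perm (Fin 3)) : Prop :=
  ∀ i < 3240, ∃ k < 3240, p.1 * tau (Pf i) * p.1⁻¹ = tau (Pf k) ∧ colF k = p.2 (colF i)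

theorem tau_P_inj {i j : Nat} (hi : i < 3240) (hj : j < 3240) (h : tau (Pf i) = tau (Pf j)) : i = j :=
  P_inj hi hj (tau_inj (P_lt hi) (P_lt hj) h)

/-- The pairs of listed elements with their permutations. -/
noncomputable def Γ : Subgroup (G × Equiv.Perm (Fin 3)) := Subgroup.closure {p | ∃ j < 10, p = (ge j, sigma j)}

theorem moves_Γ {p : G × Equiv.Perm (Fin 3)} (hp : p ∈ Γ) : Moves p := by
  induction hp using Subgroup.closure_induction with
  | mem p hp => obtain ⟨j, hj, rfl⟩ := hp; exact fun i hi => col_step hi hj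
  | one => exact fun i hi => ⟨i, hi, by simp, by simp⟩
  | mul a b _ _ ha hb =>
    intro i hi
    obtain ⟨k, hk, e1, e2⟩ := hb i hi
    obtain ⟨l, hl, e3, e4⟩ := ha k hk
    exact ⟨l, hl, by rw [← e3, ← e1, Prod.fst_mul]; group,
      by rw [e4, e2, Prod.snd_mul, Equiv.Perm.mul_apply]⟩
  | inv a _ ha =>
    choose k hk e1 e2 using ha
    have hinj : Function.Injective fun i : Fin 3240 => (⟨k i i.2, hk i i.2⟩ : Fin 3240) :=
      fun x y h => Fin.ext (tau_P_inj x.2 y.2 (mul_left_cancel (mul_right_cancel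
        ((e1 x x.2).trans ((congrArg (fun z : Fin 3240 => tau (Pf z)) h).trans (e1 y y.2).symm)))))
    intro i hi
    obtain ⟨⟨j, hj⟩, hji⟩ := Finite.injective_iff_surjective.1 hinj ⟨i, hi⟩
    have hki : k j hj = i := congrArg Fin.val hji
    refine ⟨j, hj, ?_, ?_⟩
    · rw [← hki, ← e1 j hj, Prod.fst_inv]; group
    · rw [← hki, e2 j hj, Prod.snd_inv, ← Equiv.Perm.mul_apply, inv_mul_cancel, Equiv.Perm.one_apply]

theorem col_surj : ∀ a : Fin 3, ∃ i < 3240, colF i = a := by
  intro a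
  have h1 : colF 1080 = 1 := Fin.ext (by rw [colF]; simp [col_extra])
  fin_cases a
  · exact ⟨0, by norm_num, (col_zero_iff (by norm_num)).2 (by norm_num)⟩
  · exact ⟨1080, by norm_num, h1⟩
  · obtain ⟨k, hk, -, e⟩ := col_step (i := 1080) (j := 0) (by norm_num) (by norm_num)
    exact ⟨k, hk, by rw [e, h1]; decide⟩

theorem map_fst_Γ : Γ.map (MonoidHom.fst G (Equiv.Perm (Fin 3))) = LS := by
  rw [Γ, MonoidHom.map_closure, closure_ge]
  congr 1
  ext g
  constructor
  · rintro ⟨_, ⟨j, hj, rfl⟩, rfl⟩; exact ⟨j, hj, rfl⟩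
  · rintro ⟨j, hj, rfl⟩; exact ⟨_, ⟨j, hj, rfl⟩, rfl⟩

theorem lift_Npre {n : G} (hn : n ∈ Npre) : (n, (1 : Equiv.Perm (Fin 3))) ∈ Γ := by
  induction hn using Subgroup.closure_induction with
  | mem n hn =>
    obtain ⟨j, hj, rfl⟩ := hn
    have e : (ge j * ge 0, (1 : Equiv.Perm (Fin 3))) = (ge j, sigma j) * (ge 0, sigma 0) := by
      rw [Prod.mk_mul_mk, sigma, sigma, if_neg (by omega), if_neg (by omega), Equiv.swap_mul_self]
    rw [e]
    exact mul_mem (Subgroup.subset_closure ⟨j, by omega, rfl⟩) (Subgroup.subset_closure ⟨0, by omega, rfl⟩)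
  | one => exact one_mem _
  | mul a b _ _ ha hb => simpa using mul_mem ha hb
  | inv a _ ha => simpa using inv_mem ha

/-- The image of the even part. -/
noncomputable def N1 : Subgroup Q0 := (Npre.subgroupOf LS).map (QuotientGroup.mk' (Subgroup.center LS))

theorem mk_mem_N1 {g : LS} (n : G) (hn : n ∈ Npre) (h : ∀ j < 10, Commute (n⁻¹ * (g : G)) (ge j)) :
    QuotientGroup.mk' (Subgroup.center LS) g ∈ N1 := by
  refine ⟨⟨n, Npre_le hn⟩, Subgroup.mem_subgroupOf.2 hn, (QuotientGroup.eq.2 ?_)⟩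
  have hmem : n⁻¹ * (g : G) ∈ LS := mul_mem (inv_mem (Npre_le hn)) g.2
  have := (central_iff hmem).2 h
  exact this

theorem gen_conj_N1 {j m : Nat} (hj : j < 10) (hm : m < 9) :
    QuotientGroup.mk' (Subgroup.center LS) (⟨ge j, ge_mem hj⟩ *
      (⟨ge m * ge 0, mul_mem (ge_mem (by omega)) (ge_mem (by omega))⟩ : LS) * (⟨ge j, ge_mem hj⟩ : LS)⁻¹) ∈ N1 := by
  by_cases h9 : j < 9
  · refine mk_mem_N1 (ge j * ge m * (ge 0 * ge j)) (mul_mem (pair_mem_Npre h9 hm) (pair_mem_Npre (by norm_num) h9))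
      fun i _ => ?_
    show Commute (_ * (ge j * (ge m * ge 0) * (ge j)⁻¹)) _
    rw [ge_inv hj, show ge j * (ge m * ge 0) * ge j = ge j * ge m * (ge 0 * ge j) by group, inv_mul_cancel]
    exact Commute.one_left _
  have hj9 : j = 9 := by omega
  subst hj9
  have hinv := ge_inv (show 9 < 10 by norm_num)
  by_cases hm0 : m = 0
  · subst hm0
    refine mk_mem_N1 1 (one_mem _) fun i _ => ?_
    show Commute (_ * (ge 9 * (ge 0 * ge 0) * (ge 9)⁻¹)) _
    rw [ge_sq (by norm_num)]
    simp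
  have h := (allFrom_iff _ _ _).1 certs m (by omega) (by omega)
  simp only [okCert, Bool.and_eq_true, List.all_eq_true, force_eq] at h
  obtain ⟨hw, hall⟩ := h
  obtain ⟨hwl, hwN⟩ := evenB_spec hw
  have htl : ∀ x ∈ target m, x < 12 := by
    intro x hx
    simp only [target, List.mem_append] at hx
    rcases hx with h | h | h | h
    exacts [W_lt (by norm_num) x h, W_lt (by norm_num) x h, W_lt (by omega) x h, W_lt (by norm_num) x h]
  have htgt : gw (target m) = ge 9 * (ge m * ge 0) * (ge 9)⁻¹ := by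
    rw [target, gw_append, gw_append, gw_append, hinv]
    simp only [ge, mul_assoc]
  refine mk_mem_N1 _ hwN fun i hi => ?_
  show Commute ((gw (cert.getD (m - 1) []))⁻¹ * (ge 9 * (ge m * ge 0) * (ge 9)⁻¹)) (ge i)
  rw [← htgt, ge_eq i hi]
  have hgi : gi i ∈ ([0, 1, 2, 3, 4, 5, 6, 7, 8, 1080] : List Nat) := by
    interval_cases i <;> decide
  have e := Nat.eq_of_beq_eq_true (hall _ hgi)
  have e1 := conj_gw hwl (P_lt (gi_lt i hi))
  have e2 := conj_gw htl (P_lt (gi_lt i hi))
  rw [show Fi24Index.data.fwd (cert.getD (m - 1) []) (Pf (gi i)) =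
    Fi24Index.data.fwd (target m) (Pf (gi i)) from e, ← e2] at e1
  generalize gw (cert.getD (m - 1) []) = a at e1 ⊢
  generalize gw (target m) = b at e1 ⊢
  generalize tau (Pf (gi i)) = t at e1 ⊢
  show a⁻¹ * b * t = t * (a⁻¹ * b)
  calc a⁻¹ * b * t = a⁻¹ * (b * t * b⁻¹) * b := by group
    _ = a⁻¹ * (a * t * a⁻¹) * b := by rw [e1]
    _ = t * (a⁻¹ * b) := by group

theorem N1_normal : N1.Normal := by
  rw [← Subgroup.normalizer_eq_top_iff, eq_top_iff]
  rintro q -
  obtain ⟨⟨g, hg⟩, rfl⟩ := QuotientGroup.mk'_surjective _ q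
  have hgen : ∀ (j : Nat) (hj : j < 10),
      QuotientGroup.mk' (Subgroup.center LS) ⟨ge j, ge_mem hj⟩ ∈ Subgroup.normalizer (N1 : Set Q0) := by
    intro j hj
    have hsq : QuotientGroup.mk' (Subgroup.center LS) ⟨ge j, ge_mem hj⟩ *
        QuotientGroup.mk' (Subgroup.center LS) ⟨ge j, ge_mem hj⟩ = 1 := by
      rw [← map_mul, show (⟨ge j, ge_mem hj⟩ : LS) * ⟨ge j, ge_mem hj⟩ = 1 from Subtype.ext (ge_sq hj), map_one]
    have hfwd : ∀ n ∈ N1, QuotientGroup.mk' (Subgroup.center LS) ⟨ge j, ge_mem hj⟩ * n *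
        (QuotientGroup.mk' (Subgroup.center LS) ⟨ge j, ge_mem hj⟩)⁻¹ ∈ N1 := by
      rintro _ ⟨⟨n, hnLS⟩, hn, rfl⟩
      rw [SetLike.mem_coe, Subgroup.mem_subgroupOf] at hn
      change n ∈ Npre at hn
      induction hn using Subgroup.closure_induction with
      | mem n hn =>
        obtain ⟨m, hm, rfl⟩ := hn
        rw [← map_inv, ← map_mul, ← map_mul]
        exact gen_conj_N1 hj hm
      | one => rw [show (⟨1, hnLS⟩ : LS) = 1 from rfl, map_one, mul_one, mul_inv_cancel]; exact one_mem _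
      | mul a b ha hb iha ihb =>
        have := mul_mem (iha (Npre_le ha)) (ihb (Npre_le hb))
        rw [show (⟨a * b, hnLS⟩ : LS) = ⟨a, Npre_le ha⟩ * ⟨b, Npre_le hb⟩ from rfl, map_mul]
        convert this using 1
        group
      | inv a ha iha =>
        rw [show (⟨a⁻¹, hnLS⟩ : LS) = ⟨a, Npre_le ha⟩⁻¹ from rfl, map_inv]
        convert inv_mem (iha (Npre_le ha)) using 1
        group
    generalize QuotientGroup.mk' (Subgroup.center LS) ⟨ge j, ge_mem hj⟩ = q at hsq hfwd ⊢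
    rw [Subgroup.mem_normalizer_iff]
    refine fun n => ⟨hfwd n, fun h => ?_⟩
    have := hfwd _ h
    rwa [inv_eq_of_mul_eq_one_right hsq, show q * (q * n * q) * q = (q * q) * n * (q * q) by group, hsq,
      one_mul, mul_one] at this
  have hg' : g ∈ Subgroup.closure {g | ∃ j < 10, g = ge j} := closure_ge ▸ hg
  induction hg' using Subgroup.closure_induction with
  | mem g hgm => obtain ⟨j, hj, rfl⟩ := hgm; exact hgen j hj
  | one => rw [show (⟨1, hg⟩ : LS) = 1 from rfl, map_one]; exact one_mem _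
  | mul a b ha hb iha ihb =>
    have ha' : a ∈ LS := closure_ge.symm ▸ ha
    have hb' : b ∈ LS := closure_ge.symm ▸ hb
    rw [show (⟨a * b, hg⟩ : LS) = ⟨a, ha'⟩ * ⟨b, hb'⟩ from rfl, map_mul]
    exact mul_mem (iha ha') (ihb hb')
  | inv a ha iha =>
    have ha' : a ∈ LS := closure_ge.symm ▸ ha
    rw [show (⟨a⁻¹, hg⟩ : LS) = ⟨a, ha'⟩⁻¹ from rfl, map_inv]
    exact inv_mem (iha ha')

/-- Two involutions with product of order dividing three generate at most six elements. -/
theorem card_le_six {M : Type*} [Group M] {x y : M} (hx : x * x = 1) (hy : y * y = 1)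
    (h3 : x * y * x = y * x * y) :
    Finite (Subgroup.closure ({x, y} : Set M)) ∧ Nat.card (Subgroup.closure ({x, y} : Set M)) ≤ 6 := by
  classical
  let T : Finset M := {1, x, y, x * y, y * x, x * y * x}
  have hmul : ∀ m ∈ ({x, y} : Set M), ∀ t ∈ T, m * t ∈ T := by
    have hxx : ∀ z, x * (x * z) = z := fun z => by rw [← mul_assoc, hx, one_mul]
    have hyy : ∀ z, y * (y * z) = z := fun z => by rw [← mul_assoc, hy, one_mul]
    have h3' : x * (y * x) = y * (x * y) := by rw [← mul_assoc, h3, mul_assoc]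
    have h4 : x * (y * (x * y)) = y * x := by rw [← h3', hxx]
    intro m hm t ht
    simp only [T, Finset.mem_insert, Finset.mem_singleton] at ht ⊢
    simp only [Set.mem_insert_iff, Set.mem_singleton_iff] at hm
    rcases hm with rfl | rfl <;> rcases ht with rfl | rfl | rfl | rfl | rfl | rfl <;>
      simp only [mul_one, mul_assoc, hx, hy, hxx, hyy, h3', h4, true_or, or_true]
  have hle : (Subgroup.closure ({x, y} : Set M) : Set M) ⊆ T := by
    intro g hg
    induction hg using Subgroup.closure_induction_left with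
    | one => simp [T]
    | mul_left m hm z _ hz => exact hmul m hm z hz
    | inv_mul_cancel m hm z _ hz =>
      have : m⁻¹ = m := by
        simp only [Set.mem_insert_iff, Set.mem_singleton_iff] at hm
        rcases hm with rfl | rfl
        · exact inv_eq_of_mul_eq_one_right hx
        · exact inv_eq_of_mul_eq_one_right hy
      rw [this]
      exact hmul m hm z hz
  refine ⟨(T.finite_toSet.subset hle).to_subtype, ?_⟩
  rw [← SetLike.coe_sort_coe, Nat.card_coe_set_eq]
  refine (Set.ncard_le_ncard hle T.finite_toSet).trans ?_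
  rw [Set.ncard_coe_finset]
  exact Finset.card_le_six

theorem perm_three (s : Equiv.Perm (Fin 3)) :
    s ∈ Subgroup.closure ({Equiv.swap 1 2, Equiv.swap 0 2} : Set (Equiv.Perm (Fin 3))) := by
  have h : ∀ s : Equiv.Perm (Fin 3), s = 1 ∨ s = Equiv.swap 1 2 ∨ s = Equiv.swap 0 2 ∨
      s = Equiv.swap 1 2 * Equiv.swap 0 2 ∨ s = Equiv.swap 0 2 * Equiv.swap 1 2 ∨
      s = Equiv.swap 1 2 * Equiv.swap 0 2 * Equiv.swap 1 2 := by decide
  have ha : Equiv.swap 1 2 ∈ Subgroup.closure ({Equiv.swap 1 2, Equiv.swap 0 2} : Set (Equiv.Perm (Fin 3))) :=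
    Subgroup.subset_closure (Set.mem_insert _ _)
  have hb : Equiv.swap 0 2 ∈ Subgroup.closure ({Equiv.swap 1 2, Equiv.swap 0 2} : Set (Equiv.Perm (Fin 3))) :=
    Subgroup.subset_closure (Set.mem_insert_of_mem _ rfl)
  rcases h s with e | e | e | e | e | e <;> rw [e]
  exacts [one_mem _, ha, hb, mul_mem ha hb, mul_mem hb ha, mul_mem (mul_mem ha hb) ha]

theorem quotient_iso (hN : N1.Normal) : Nonempty (Q0 ⧸ N1 ≃* Equiv.Perm (Fin 3)) := by
  let π : LS →* Q0 ⧸ N1 := (QuotientGroup.mk' N1).comp (QuotientGroup.mk' (Subgroup.center LS))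
  let p₁ : Γ →* LS := ((MonoidHom.fst _ _).comp Γ.subtype).codRestrict _ fun x =>
    map_fst_Γ ▸ ⟨x.1, x.2, rfl⟩
  let φ : Γ →* Q0 ⧸ N1 := π.comp p₁
  let ψ : Γ →* Equiv.Perm (Fin 3) := (MonoidHom.snd _ _).comp Γ.subtype
  have s₁ : Function.Surjective p₁ := by
    rintro ⟨a, ha⟩
    rw [← map_fst_Γ] at ha
    obtain ⟨x, hx, rfl⟩ := ha
    exact ⟨⟨x, hx⟩, rfl⟩
  have hφ : Function.Surjective φ :=
    ((QuotientGroup.mk'_surjective N1).comp (QuotientGroup.mk'_surjective _)).comp s₁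
  have hψ : Function.Surjective ψ := by
    intro s
    have hle : Subgroup.closure ({Equiv.swap 1 2, Equiv.swap 0 2} : Set (Equiv.Perm (Fin 3))) ≤ ψ.range := by
      rw [Subgroup.closure_le]
      rintro s (rfl | rfl)
      · exact ⟨⟨(ge 0, sigma 0), Subgroup.subset_closure ⟨0, by norm_num, rfl⟩⟩, rfl⟩
      · exact ⟨⟨(ge 9, sigma 9), Subgroup.subset_closure ⟨9, by norm_num, rfl⟩⟩, rfl⟩
    exact hle (perm_three s)
  refine nonempty_equiv_of_ker φ ψ hφ hψ (le_antisymm ?_ ?_)
  · -- even elements preserve the classes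
    intro x hx
    rw [MonoidHom.mem_ker] at hx ⊢
    have hxN : QuotientGroup.mk' (Subgroup.center LS) (p₁ x) ∈ N1 := (QuotientGroup.eq_one_iff _).1 hx
    obtain ⟨⟨n, hnLS⟩, hn, e⟩ := hxN
    have hz := (QuotientGroup.eq.1 e : (⟨n, hnLS⟩ : LS)⁻¹ * p₁ x ∈ Subgroup.center LS)
    refine Equiv.ext fun a => ?_
    obtain ⟨i, hi, rfl⟩ := col_surj a
    obtain ⟨k, hk, e1, e2⟩ := moves_Γ x.2 i hi
    obtain ⟨l, hl, e3, e4⟩ := moves_Γ (lift_Npre (Subgroup.mem_subgroupOf.1 hn)) i hi
    have hc : Commute (n⁻¹ * (x : G × Equiv.Perm (Fin 3)).1) (tau (Pf i)) :=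
      (congrArg Subtype.val (Subgroup.mem_center_iff.1 hz ⟨tau (Pf i), tau_mem_LS hi⟩)).symm
    have hkl : k = l := by
      refine tau_P_inj hk hl (e1.symm.trans (Eq.trans ?_ e3))
      generalize (x : G × Equiv.Perm (Fin 3)).1 = g at hc
      calc g * tau (Pf i) * g⁻¹ = n * ((n⁻¹ * g) * tau (Pf i)) * g⁻¹ := by group
        _ = n * (tau (Pf i) * (n⁻¹ * g)) * g⁻¹ := by rw [hc.eq]
        _ = n * tau (Pf i) * n⁻¹ := by group
    show (x : G × Equiv.Perm (Fin 3)).2 (colF i) = colF i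
    rw [← e2, hkl, e4]
    rfl
  · -- at most six cosets
    let χ : Γ →* (Q0 ⧸ N1) × Equiv.Perm (Fin 3) := φ.prod ψ
    let A : (Q0 ⧸ N1) × Equiv.Perm (Fin 3) := (π ⟨ge 0, ge_mem (by norm_num)⟩, sigma 0)
    let B : (Q0 ⧸ N1) × Equiv.Perm (Fin 3) := (π ⟨ge 9, ge_mem (by norm_num)⟩, sigma 9)
    have hA : ∀ j (hj : j < 9), (π ⟨ge j, ge_mem (by omega)⟩, sigma j) = A := by
      intro j hj
      refine Prod.ext ?_ (by simp [A, sigma, show j ≠ 9 by omega])
      show π _ = π _
      apply QuotientGroup.eq.2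
      rw [← map_inv, ← map_mul]
      refine ⟨_, Subgroup.mem_subgroupOf.2 ?_, rfl⟩
      show (ge j)⁻¹ * ge 0 ∈ Npre
      rw [ge_inv (by omega)]
      exact pair_mem_Npre hj (by norm_num)
    have hrange : χ.range ≤ Subgroup.closure {A, B} := by
      rintro _ ⟨⟨x, hx⟩, rfl⟩
      induction hx using Subgroup.closure_induction with
      | mem x hxm =>
        obtain ⟨j, hj, rfl⟩ := hxm
        refine Subgroup.subset_closure ?_
        by_cases h9 : j < 9
        · exact Or.inl (hA j h9)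
        · have : j = 9 := by omega
          subst this; exact Or.inr rfl
      | one => exact (map_one χ).symm ▸ one_mem _
      | mul a b ha hb iha ihb => exact (map_mul χ ⟨a, ha⟩ ⟨b, hb⟩).symm ▸ mul_mem iha ihb
      | inv a ha iha => exact (map_inv χ ⟨a, ha⟩).symm ▸ inv_mem iha
    have sqA : A * A = 1 := Prod.ext (by
      show π _ * π _ = 1
      rw [← map_mul, show (⟨ge 0, ge_mem (by norm_num)⟩ : LS) * ⟨ge 0, ge_mem (by norm_num)⟩ = 1 from
        Subtype.ext (ge_sq (by norm_num)), map_one]) (show sigma 0 * sigma 0 = 1 by decide)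
    have sqB : B * B = 1 := Prod.ext (by
      show π _ * π _ = 1
      rw [← map_mul, show (⟨ge 9, ge_mem (by norm_num)⟩ : LS) * ⟨ge 9, ge_mem (by norm_num)⟩ = 1 from
        Subtype.ext (ge_sq (by norm_num)), map_one]) (show sigma 9 * sigma 9 = 1 by decide)
    have hbraid : A * B * A = B * A * B := Prod.ext (by
      show π _ * π _ * π _ = π _ * π _ * π _
      simp only [← map_mul]
      congr 1
      refine Subtype.ext ?_
      show ge 0 * ge 9 * ge 0 = ge 9 * ge 0 * ge 9
      rw [ge_eq 0 (by norm_num), ge_eq 9 (by norm_num)]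
      refine Fi24Out.D_braid (tau_mem (P_lt (gi_lt 0 (by norm_num)))) (tau_mem (P_lt (gi_lt 9 (by norm_num)))) ?_
      rw [← ge_eq 0 (by norm_num), ge, commute_gw (W_lt (by norm_num)) (P_lt (gi_lt 9 (by norm_num)))]
      decide +kernel)
      (show sigma 0 * sigma 9 * sigma 0 = sigma 9 * sigma 0 * sigma 9 by decide)
    obtain ⟨hf, h6⟩ := card_le_six sqA sqB hbraid
    have := hf
    have : Finite χ.range := Finite.of_injective _ (Subgroup.inclusion_injective hrange)
    let q : χ.range →* Equiv.Perm (Fin 3) := (MonoidHom.snd _ _).comp χ.range.subtype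
    have hq : Function.Surjective q := fun s => by
      obtain ⟨x, hx⟩ := hψ s
      exact ⟨⟨χ x, x, rfl⟩, hx⟩
    have hqb : Function.Bijective q := hq.bijective_of_nat_card_le (by
      rw [Nat.card_perm, Nat.card_fin]
      exact (Subgroup.card_le_of_le hrange).trans h6)
    intro x hx
    rw [MonoidHom.mem_ker] at hx ⊢
    have h1 : (⟨χ x, x, rfl⟩ : χ.range) = 1 := hqb.1 (hx.trans (map_one q).symm)
    exact congrArg (fun y : χ.range => (y : (Q0 ⧸ N1) × Equiv.Perm (Fin 3)).1) h1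

end Cfsg.Agent.FischerTypes.F24
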