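import Cfsg.Agent.FischerTypes.Model
import Cfsg.Agent.FischerTypes.Check24
import Cfsg.Agent.Classical.OrthPOmega
import Cfsg.Agent.ThreeTrans.PairM24

/-!
# The even products of reflections of norm one in dimension eight give all of PΩ⁺(8,3)
-/

set_option autoImplicit false
set_option maxRecDepth 100000

namespace Cfsg.Agent.FischerTypes.F24

open Cfsg.Agent.CosetCert QuadraticMap Cfsg.Agent.Classical.Quad

/-- The orthogonal group. -/
abbrev O8 : Type := ↥(Cfsg.isometryGroup (ZMod 3) ⇑plusEight.Q)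

/-- The reflection of a listed point. -/
noncomputable def r (i : Nat) : O8 := plusEight.refl (Vf i)

/-- The even part. -/
noncomputable def R0 : Subgroup O8 := Subgroup.closure {g | ∃ j < 9, g = r j * r 0}

theorem point_inj1 {i j : Nat} (hi : i < 1080) (hj : j < 1080) (h : Pf i = Pf j) : i = j :=
  point_inj finds (hi.trans (by norm_num)) (hj.trans (by norm_num)) h

theorem verified : Verified plusEight Pf parf Vf idxf mv 306936 1080 9 where
  le := by decide
  lt := fun _ hi => (cond_of conds (hi.trans (by norm_num))).1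
  inj := fun _ hi _ hj => point_inj1 hi hj
  reach := reaches
  vecs := vecs
  steps := steps
  codes := codes

theorem form_eq : ⇑plusEight.Q = Cfsg.quadFormPlus 4 (ZMod 3) := funext fun x => by
  simp [plusEight, plusCoord_map]

theorem nondeg : (polarBilin plusEight.Q).Nondegenerate :=
  Iso.nondeg (Iso.symm ⟨plusCoord 4, fun x => by simp [plusEight]⟩) (nondeg_hyp nondeg_zeroForm 4)

theorem norm_r {i : Nat} (hi : i < 1080) : plusEight.Q (plusEight.vec (Vf i)) = 1 := norm_one verified hi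

theorem r_sq {i : Nat} (hi : i < 1080) : r i * r i = 1 := by
  refine Subtype.ext (Units.ext (Matrix.ext_of_mulVec_single fun k => ?_))
  simp only [Subgroup.coe_mul, Units.val_mul, ← Matrix.mulVec_mulVec, OneMemClass.coe_one, Units.val_one,
    Matrix.one_mulVec, r]
  generalize (Pi.single k (1 : ZMod 3) : Fin 4 ⊕ Fin 4 → ZMod 3) = x
  rw [plusEight.refl_apply (norm_r hi) x, plusEight.refl_apply (norm_r hi)]
  simp only [polar_sub_left, polar_smul_left, smul_eq_mul, polar_self, norm_r hi]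
  match_scalars <;> ring

theorem r_inv {i : Nat} (hi : i < 1080) : (r i)⁻¹ = r i := inv_eq_of_mul_eq_one_right (r_sq hi)

theorem r_step {i j : Nat} (hj : j < 9) (hi : i < 1080) :
    ∃ k < 1080, Pf k = mv j (Pf i) ∧ r j * r i * r j = r k := by
  obtain ⟨k, hk, hP, hV⟩ := exists_step verified hj hi
  refine ⟨k, hk, hP, ?_⟩
  show r j * r i * r j = plusEight.refl (Vf k)
  rw [← hV]
  show r j * r i * r j = r j * r i * (r j)⁻¹
  rw [r_inv (hj.trans (by norm_num))]

theorem reach_induction {p : Nat → Prop} (base : ∀ j < 9, p j)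
    (step : ∀ i j k, i < 1080 → j < 9 → k < 1080 → Pf k = mv j (Pf i) →
      r j * r i * r j = r k → p i → p k) : ∀ i < 1080, p i := by
  intro i hi
  induction i using Nat.strong_induction_on with
  | _ i ih =>
    rcases reach_of reaches hi with h | ⟨i', j, hlt, hj, e⟩
    · exact base i h
    · obtain ⟨k, hk, hP, hV⟩ := r_step hj (hlt.trans hi)
      have hki : k = i := point_inj1 hk hi (hP.trans e)
      subst hki
      exact step i' j k (hlt.trans hi) hj hk hP hV (ih i' hlt (hlt.trans hi))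

theorem r_mul_r0 : ∀ i < 1080, r i * r 0 ∈ R0 := by
  refine reach_induction (fun j hj => Subgroup.subset_closure ⟨j, hj, rfl⟩) ?_
  intro i j k hi hj _ _ hV h
  have hj' : r j * r 0 ∈ R0 := Subgroup.subset_closure ⟨j, hj, rfl⟩
  have e : r k * r 0 = (r j * r 0) * (r i * r 0)⁻¹ * (r j * r 0) := by
    rw [← hV, mul_inv_rev, r_inv (by norm_num), r_inv hi]
    calc r j * r i * r j * r 0 = r j * (r 0 * r 0) * r i * (r j * r 0) := by
          rw [r_sq (by norm_num), mul_one]; simp only [mul_assoc]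
      _ = _ := by simp only [mul_assoc]
  rw [e]
  exact mul_mem (mul_mem hj' (inv_mem h)) hj'

theorem pair_mem {a b : Nat} (ha : a < 1080) (hb : b < 1080) : r a * r b ∈ R0 := by
  have e : r a * r b = (r a * r 0) * (r b * r 0)⁻¹ := by
    rw [mul_inv_rev, r_inv (by norm_num), r_inv hb]
    simp only [mul_assoc]
    rw [← mul_assoc (r 0) (r 0), r_sq (by norm_num), one_mul]
  rw [e]
  exact mul_mem (r_mul_r0 a ha) (inv_mem (r_mul_r0 b hb))

theorem conj_r (g : O8) {i : Nat} (hi : i < 1080) : ∃ k < 1080, g * r i * g⁻¹ = r k := by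
  have hr := range_f₂ verified
  obtain ⟨v, hv, hm⟩ : r i ∈ Cfsg.reflectionsOfNorm (⇑plusEight.Q) 1 := by
    rw [← hr]; exact ⟨⟨i, hi⟩, rfl⟩
  let w : Fin 4 ⊕ Fin 4 → ZMod 3 := Matrix.mulVec (g : GL (Fin 4 ⊕ Fin 4) (ZMod 3)).1 v
  have hw : plusEight.Q w = 1 := (mem_isometryGroup_iff.1 g.2 v).trans hv
  obtain ⟨c, -, hc⟩ := plusEight.vec_surj w
  have hmem : g * r i * g⁻¹ ∈ Cfsg.reflectionsOfNorm (⇑plusEight.Q) 1 := by
    have hne : plusEight.Q v ≠ 0 := by rw [hv]; decide
    have hne' : plusEight.Q w ≠ 0 := by rw [hw]; decide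
    refine ⟨w, hw, (matrix_eq_reflection_iff hne').2 ?_⟩
    rw [map_mul, map_mul, map_inv, (matrix_eq_reflection_iff hne).1 hm]
    refine ext_oG fun x => ?_
    obtain ⟨y, rfl⟩ : ∃ y, (oEquiv plusEight.Q g).1 y = x :=
      ⟨(oEquiv plusEight.Q g).1.symm x, (oEquiv plusEight.Q g).1.apply_symm_apply x⟩
    have hpol : polar plusEight.Q ((oEquiv plusEight.Q g).1 y) w = polar plusEight.Q y v := by
      have h : ∀ z, plusEight.Q ((oEquiv plusEight.Q g).1 z) = plusEight.Q z := fun z =>
        (oEquiv plusEight.Q g).2 z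
      show polar plusEight.Q ((oEquiv plusEight.Q g).1 y) ((oEquiv plusEight.Q g).1 v) = _
      simp only [polar, ← map_add, h]
    simp only [Subgroup.coe_mul, Subgroup.coe_inv, LinearEquiv.mul_apply]
    rw [show ((oEquiv plusEight.Q g).1⁻¹) ((oEquiv plusEight.Q g).1 y) = y from
      LinearEquiv.symm_apply_apply _ _, rO_apply, rO_apply, hpol, hv, hw, map_sub, map_smul]
    rfl
  rw [← hr] at hmem
  obtain ⟨k, hk⟩ := hmem
  exact ⟨k, k.2, hk.symm⟩

theorem R0_normal : R0.Normal := by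
  refine ⟨fun x hx g => ?_⟩
  induction hx using Subgroup.closure_induction with
  | mem x hx =>
    obtain ⟨j, hj, rfl⟩ := hx
    obtain ⟨a, ha, ea⟩ := conj_r g (hj.trans (by norm_num) : j < 1080)
    obtain ⟨b, hb, eb⟩ := conj_r g (show 0 < 1080 by norm_num)
    rw [show g * (r j * r 0) * g⁻¹ = (g * r j * g⁻¹) * (g * r 0 * g⁻¹) by group, ea, eb]
    exact pair_mem ha hb
  | one => simp
  | mul u v _ _ hu hv =>
    rw [show g * (u * v) * g⁻¹ = (g * u * g⁻¹) * (g * v * g⁻¹) by group]
    exact mul_mem hu hv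
  | inv u _ hu =>
    rw [show g * u⁻¹ * g⁻¹ = (g * u * g⁻¹)⁻¹ by group]
    exact inv_mem hu

/-- The abelian quotient of the orthogonal group. -/
noncomputable abbrev ab : O8 →* Abelianization O8 := Abelianization.of

theorem ab_node : ∀ j < 9, ab (r j) = ab (r 0) := by
  intro j hj
  induction j using Nat.strong_induction_on with
  | _ j ih =>
    rcases Nat.eq_zero_or_pos j with rfl | hpos
    · rfl
    have h := (allFrom_iff _ _ _).1 adjs j hpos (by omega)
    simp only [okAdj, force_eq, Bool.and_eq_true] at h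
    have hij := Nat.blt_eq.mp h.1
    generalize adj.getD j 0 = i at h hij
    have hi9 : i < 9 := hij.trans hj
    obtain ⟨k, hk, hP, hV⟩ := r_step hj (hi9.trans (by norm_num) : i < 1080)
    obtain ⟨l, hl, hP', hV'⟩ := r_step hi9 hk
    have hlj : l = j := point_inj1 hl (hj.trans (by norm_num))
      (by rw [hP', hP]; exact Nat.eq_of_beq_eq_true h.2)
    have sq : ∀ a, a < 1080 → ab (r a) * ab (r a) = 1 := fun a ha => by rw [← map_mul, r_sq ha, map_one]
    have a1 := congrArg ab hV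
    have a2 := congrArg ab hV'
    rw [map_mul, map_mul, mul_comm (ab (r j)), mul_assoc, sq j (hj.trans (by norm_num)), mul_one] at a1
    rw [map_mul, map_mul, mul_comm (ab (r i)), mul_assoc, sq i (hi9.trans (by norm_num)), mul_one] at a2
    rw [← hlj, ← a2, ← a1]
    exact ih i hij hi9

theorem R0_le : R0 ≤ Cfsg.Omega (ZMod 3) ⇑plusEight.Q := by
  rw [R0, Subgroup.closure_le]
  rintro _ ⟨j, hj, rfl⟩
  show r j * r 0 ∈ commutator O8
  rw [← Abelianization.ker_of, MonoidHom.mem_ker]
  show ab (r j * r 0) = 1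
  rw [map_mul, ab_node j hj, ← map_mul, r_sq (by norm_num), map_one]

/-- The product of the reflections in reverse order. -/
noncomputable def rprod : List Nat → O8
  | [] => 1
  | i :: l => rprod l * r i

theorem rprod_vec : ∀ (l : List Nat), (∀ i ∈ l, i < 1080) → ∀ c,
    Matrix.mulVec (rprod l : GL (Fin 4 ⊕ Fin 4) (ZMod 3)).1 (plusEight.vec c) =
      plusEight.vec (reflects l c)
  | [], _, c => by simp [rprod, reflects]
  | i :: l, h, c => by
    have hi := h i (List.mem_cons_self ..)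
    have hr : reflects (i :: l) c =
        reflects l (addMul 8 c (2 * (plusEight.bil c (Vf i) % 3)) (Vf i)) := by
      simp only [reflects, force_eq]
    have hn : (8 : Nat) = plusEight.n := rfl
    rw [hr, ← rprod_vec l (fun x hx => h x (List.mem_cons_of_mem _ hx)), hn, plusEight.vec_addMul,
      rprod, Subgroup.coe_mul, Units.val_mul, ← Matrix.mulVec_mulVec, r,
      plusEight.refl_apply (norm_r hi), plusEight.polar_vec, Nat.cast_mul, cast_mod,
      show ((2 : ℕ) : ZMod 3) = -1 from rfl, neg_one_mul, neg_smul, ← sub_eq_add_neg]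

theorem rprod_mem : ∀ l : List Nat, (∀ i ∈ l, i < 1080) → l.length % 2 = 0 → rprod l ∈ R0
  | [], _, _ => one_mem _
  | [_], _, h => absurd h (by simp)
  | a :: b :: l, h, hl => by
    rw [rprod, rprod, mul_assoc]
    exact mul_mem (rprod_mem l (fun x hx => h x (by simp [hx]))
      (by simp only [List.length_cons] at hl; omega)) (pair_mem (h b (by simp)) (h a (by simp)))

/-- Minus one, as an even product. -/
noncomputable def minusOne : O8 := rprod frame

theorem minusOne_mem : minusOne ∈ R0 :=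
  rprod_mem _ (fun i hi => Nat.blt_eq.mp (List.all_eq_true.1 frame_ok.1 i hi)) frame_ok.2

theorem unit_vec : ∀ i : Fin 4 ⊕ Fin 4,
    plusEight.vec (3 ^ (finSumFinEquiv i : ℕ)) = Pi.single i 1 := by
  intro i
  funext k
  show ((dig (3 ^ (finSumFinEquiv i : ℕ)) (finSumFinEquiv k : ℕ) : ℕ) : ZMod 3) = _
  revert i k
  decide +kernel

theorem minusOne_mat :
    ((minusOne : GL (Fin 4 ⊕ Fin 4) (ZMod 3)) : Matrix (Fin 4 ⊕ Fin 4) (Fin 4 ⊕ Fin 4) (ZMod 3)) = -1 := by
  refine Matrix.ext_of_mulVec_single fun i => ?_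
  rw [← unit_vec i]
  have h := all_of _ frames (c := (finSumFinEquiv i : ℕ)) (finSumFinEquiv i).2
  rw [minusOne, rprod_vec _ (fun j hj => Nat.blt_eq.mp (List.all_eq_true.1 frame_ok.1 j hj)),
    Nat.eq_of_beq_eq_true h, show (8 : Nat) = plusEight.n from rfl, plusEight.vec_negCode,
    Matrix.neg_mulVec, Matrix.one_mulVec]

/-- The two central elements commute with everything. -/
theorem center_commute {z : ↥(Cfsg.Omega (ZMod 3) ⇑plusEight.Q)}
    (hz : z ∈ Subgroup.center ↥(Cfsg.Omega (ZMod 3) ⇑plusEight.Q)) (g : O8) : Commute (z : O8) g := by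
  have hn : 5 ≤ Module.finrank (ZMod 3) (Fin 4 ⊕ Fin 4 → ZMod 3) := by simp
  have hneg : ∀ y : O8, Commute minusOne y := fun y => by
    refine Subtype.ext (Units.ext ?_)
    simp only [Subgroup.coe_mul, Units.val_mul, minusOne_mat, neg_mul, mul_neg, one_mul, mul_one]
  let m : ↥(Cfsg.Omega (ZMod 3) ⇑plusEight.Q) := ⟨minusOne, R0_le minusOne_mem⟩
  have hm : m ∈ Subgroup.center ↥(Cfsg.Omega (ZMod 3) ⇑plusEight.Q) :=
    Subgroup.mem_center_iff.2 fun y => Subtype.ext (hneg y).eq.symm
  have hne : m ≠ 1 := fun e => by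
    have h1 : ((minusOne : GL (Fin 4 ⊕ Fin 4) (ZMod 3)) : Matrix (Fin 4 ⊕ Fin 4) (Fin 4 ⊕ Fin 4) (ZMod 3)) = 1 :=
      congrArg (fun x : ↥(Cfsg.Omega (ZMod 3) ⇑plusEight.Q) =>
        (((x : O8) : GL (Fin 4 ⊕ Fin 4) (ZMod 3)) : Matrix (Fin 4 ⊕ Fin 4) (Fin 4 ⊕ Fin 4) (ZMod 3))) e
    rw [minusOne_mat] at h1
    exact absurd (congrFun (congrFun h1 (.inl 0)) (.inl 0)) (by decide)
  have hcard : Nat.card (Subgroup.center ↥(Cfsg.Omega (ZMod 3) ⇑plusEight.Q)) = 2 :=
    (card_center_omega nondeg hn).1 ⟨⟨minusOne, R0_le minusOne_mem, minusOne_mat⟩, by decide⟩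
  obtain ⟨w, -, hw⟩ := (Nat.card_eq_two_iff' (⟨1, one_mem _⟩ : Subgroup.center _)).1 hcard
  by_cases h1 : z = 1
  · rw [h1]; exact Commute.one_left g
  · have : (⟨z, hz⟩ : Subgroup.center ↥(Cfsg.Omega (ZMod 3) ⇑plusEight.Q)) = ⟨m, hm⟩ :=
      (hw _ fun e => h1 (congrArg Subtype.val e)).trans (hw _ fun e => hne (congrArg Subtype.val e)).symm
    rw [show z = m from congrArg Subtype.val this]
    exact hneg g

theorem nonempty_pomega :
    Nonempty (Cfsg.POmega (ZMod 3) ⇑plusEight.Q ≃* Cfsg.POmega (ZMod 3) (Cfsg.quadFormPlus 4 (ZMod 3))) := by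
  rw [form_eq]
  exact ⟨MulEquiv.refl _⟩

theorem simple : IsSimpleGroup (Cfsg.POmega (ZMod 3) ⇑plusEight.Q) := by
  rw [form_eq]
  exact Cfsg.Agent.ThreeTrans.pomega_eight_simple.1

end Cfsg.Agent.FischerTypes.F24
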