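import Cfsg.Agent.FischerTypes.Points24
import Cfsg.Agent.FischerTypes.Orth8
import Cfsg.Agent.FischerTypes.CheckScan
import Cfsg.Agent.FischerTypes.Prim

/-!
# The transpositions commuting with two noncommuting ones in Fi24: the group they generate
-/

set_option autoImplicit false
set_option maxRecDepth 100000

namespace Cfsg.Agent.FischerTypes.F24

open Cfsg.Agent.CosetCert

/-- The transpositions commuting with the two given ones. -/
abbrev S : Set G := {y : G | y ∈ Fi24.D ∧ y ≠ Fi24.L ∧ Commute Fi24.L y} ∩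
  {y : G | y ∈ Fi24.D ∧ y ≠ tau 3 ∧ Commute (tau 3) y}

/-- The group they generate. -/
abbrev LS : Subgroup G := Subgroup.closure S

theorem cond_iff {c : Nat} : cond c = true ↔ fw [11] c = c ∧ fw [0] c = c ∧ c ≠ 0 ∧ c ≠ 3 := by
  have hb : ∀ a b : Nat, Nat.beq a b = true ↔ a = b := fun a b =>
    ⟨Nat.eq_of_beq_eq_true, fun e => e ▸ Nat.beq_refl a⟩
  simp only [cond, gate_eq, Bool.and_eq_true, hb, Bool.not_eq_true', ne_eq, ← Bool.not_eq_true]

theorem gw_eleven : gw [11] = Fi24.L := by rw [gw_single (by decide)]; rfl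

theorem gw_zero : gw [0] = tau 3 := by
  have h := name_step (x := 11) (y := 0) (c := 0) (by decide) (by decide) (by decide +kernel) (by norm_num)
    (gw_eleven.trans tau_zero.symm)
  rwa [show Fi24Index.data.fwd [0, 11] 0 = 3 by decide +kernel] at h

theorem S_eq : Set.range (f₁ tau Pf 3240) = S := by
  rw [range_f₁ tau cond ((allFrom_iff _ _ _).2 fun i _ hi => scan i (by omega)) conds]
  ext y
  constructor
  · rintro ⟨c, ⟨hc, h⟩, rfl⟩
    rw [cond_iff] at h
    obtain ⟨h11, h0, n0, n3⟩ := h
    refine ⟨⟨tau_mem hc, fun e => n0 (tau_inj hc (by norm_num) (e.trans tau_zero.symm)), ?_⟩,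
      tau_mem hc, fun e => n3 (tau_inj hc (by norm_num) e), ?_⟩
    · rw [← gw_eleven]; exact (commute_gw (by simp) hc).2 h11
    · rw [← gw_zero]; exact (commute_gw (by simp) hc).2 h0
  · rintro ⟨⟨hy, hL, hLc⟩, -, h3, h3c⟩
    obtain ⟨c, hc, rfl⟩ := exists_tau hy
    rw [← gw_eleven] at hLc
    rw [← gw_zero] at h3c
    exact ⟨c, ⟨hc, cond_iff.2 ⟨(commute_gw (by simp) hc).1 hLc, (commute_gw (by simp) hc).1 h3c,
      fun e => hL (by rw [e, tau_zero]), fun e => h3 (by rw [e])⟩⟩, rfl⟩

theorem P_lt {i : Nat} (hi : i < 3240) : Pf i < 306936 := (cond_of conds hi).1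

theorem P_inj {i j : Nat} (hi : i < 3240) (hj : j < 3240) (h : Pf i = Pf j) : i = j :=
  point_inj finds hi hj h

/-- The index of a listed element. -/
def gi (j : Nat) : Nat := if j = 9 then 1080 else j

theorem gi_lt : ∀ j < 10, gi j < 3240 := by decide

theorem W_letters : ∀ j < 10, ((W.getD j []).all fun x => Nat.blt x 12) = true := by decide +kernel

theorem W_lt {j : Nat} (hj : j < 10) : ∀ x ∈ W.getD j [], x < 12 :=
  fun x hx => Nat.blt_eq.mp (List.all_eq_true.1 (W_letters j hj) x hx)

/-- The path to the extra point. -/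
def path : List Nat := (W.getD 9 []).drop 40

theorem path_eq : W.getD 9 [] = path.reverse ++ (11 :: path) ∧
    Nat.beq (fw path 0) (Pf 1080) = true ∧ (path.all fun x => Nat.blt x 12) = true := by
  decide +kernel

theorem node_names : ∀ j < 9, gw [j + 2] = tau (Pf j) := by
  have h0 := gw_zero
  have h1 := name_step (x := 0) (y := 1) (c := 3) (by decide) (by decide) (by decide +kernel) (by norm_num) h0
  have h2 := name_step (x := 1) (y := 2) (by decide) (by decide) (by decide +kernel) (fwd_lt (by decide) (by norm_num)) h1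
  have e2 : Fi24Index.data.fwd [2, 1] (Fi24Index.data.fwd [1, 0] 3) = Pf 0 := by decide +kernel
  rw [e2] at h2
  have key : ∀ i j, i < 9 → j < 9 →
      Cfsg.Spor.coxLabel Cfsg.Spor.Fi24.edges (Fi24Index.dec (i + 2)).1 (Fi24Index.dec (j + 2)).1 = 3 →
      fw [j + 2, i + 2] (Pf i) = Pf j → gw [i + 2] = tau (Pf i) → gw [j + 2] = tau (Pf j) := by
    intro i j hi hj hlab e h
    rw [← e]
    exact name_step (by omega) (by omega) hlab (P_lt (by omega)) h
  have b3 := key 0 1 (by decide) (by decide) (by decide +kernel) (by decide +kernel) h2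
  have b4 := key 1 2 (by decide) (by decide) (by decide +kernel) (by decide +kernel) b3
  have b5 := key 2 3 (by decide) (by decide) (by decide +kernel) (by decide +kernel) b4
  have b6 := key 3 4 (by decide) (by decide) (by decide +kernel) (by decide +kernel) b5
  have b7 := key 2 5 (by decide) (by decide) (by decide +kernel) (by decide +kernel) b4
  have b8 := key 5 6 (by decide) (by decide) (by decide +kernel) (by decide +kernel) b7
  have b9 := key 6 7 (by decide) (by decide) (by decide +kernel) (by decide +kernel) b8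
  have b10 := key 7 8 (by decide) (by decide) (by decide +kernel) (by decide +kernel) b9
  intro j hj
  interval_cases j <;> assumption

/-- A listed element. -/
noncomputable def ge (j : Nat) : G := gw (W.getD j [])

theorem ge_eq (j : Nat) (hj : j < 10) : ge j = tau (Pf (gi j)) := by
  by_cases h9 : j = 9
  · subst h9
    obtain ⟨e, hp, hl⟩ := path_eq
    have hpl : ∀ x ∈ path, x < 12 := fun x hx => Nat.blt_eq.mp (List.all_eq_true.1 hl x hx)
    rw [gi, if_pos rfl, ← Nat.eq_of_beq_eq_true hp, ge, e,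
      show path.reverse ++ (11 :: path) = path.reverse ++ ([11] ++ path) from rfl, gw_append, gw_append,
      gw_inv hpl, gw_eleven, fw, tau_fwd hpl]
  · rw [gi, if_neg h9, ge]
    have hW : W.getD j [] = [j + 2] := by
      have : j < 9 := by omega
      interval_cases j <;> rfl
    rw [hW]
    exact node_names j (by omega)

theorem ge_conj {j c : Nat} (hj : j < 10) (hc : c < 306936) :
    ge j * tau c * (ge j)⁻¹ = tau (mv j c) := conj_gw (W_lt hj) hc

theorem hconj (j : Nat) (hj : j < 9) (c : Nat) (hc : c < 306936) :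
    tau (Pf j) * tau c * (tau (Pf j))⁻¹ = tau (mv j c) := by
  have e := ge_eq j (by omega)
  rw [gi, if_neg (by omega)] at e
  rw [← e]
  exact ge_conj (by omega) hc

theorem ge_sq {j : Nat} (hj : j < 10) : ge j * ge j = 1 := by
  rw [ge_eq j hj]
  exact Fi24Out.D_sq (tau_mem (P_lt (gi_lt j hj)))

theorem ge_inv {j : Nat} (hj : j < 10) : (ge j)⁻¹ = ge j := inv_eq_of_mul_eq_one_right (ge_sq hj)

theorem tau_mem_LS {i : Nat} (hi : i < 3240) : tau (Pf i) ∈ LS :=
  Subgroup.subset_closure (S_eq ▸ ⟨⟨i, hi⟩, rfl⟩)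

theorem ge_mem {j : Nat} (hj : j < 10) : ge j ∈ LS := by
  rw [ge_eq j hj]; exact tau_mem_LS (gi_lt j hj)

theorem closure_ge : LS = Subgroup.closure {g | ∃ j < 10, g = ge j} := by
  refine le_antisymm ?_ ?_
  · rw [Subgroup.closure_le, ← S_eq]
    rintro _ ⟨⟨i, hi⟩, rfl⟩
    have base : ∀ j < 10, tau (Pf (gi j)) ∈ Subgroup.closure {g | ∃ j < 10, g = ge j} := fun j hj =>
      Subgroup.subset_closure ⟨j, hj, (ge_eq j hj).symm⟩
    show tau (Pf i) ∈ _
    induction i using Nat.strong_induction_on with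
    | _ i ih =>
      have step : ∀ i' j, i' < i → j < 10 → mv j (Pf i') = Pf i →
          tau (Pf i) ∈ Subgroup.closure {g | ∃ j < 10, g = ge j} := fun i' j hlt hj e => by
        rw [← e, ← ge_conj hj (P_lt (hlt.trans hi))]
        exact mul_mem (mul_mem (Subgroup.subset_closure ⟨j, hj, rfl⟩) (ih i' hlt (hlt.trans hi)))
          (inv_mem (Subgroup.subset_closure ⟨j, hj, rfl⟩))
      by_cases h1 : i < 1080
      · rcases reach_of reaches h1 with h | ⟨i', j, hlt, hj, e⟩
        · have := base i (by omega)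
          rwa [gi, if_neg (by omega)] at this
        · exact step i' j hlt (by omega) e
      by_cases h2 : i = 1080
      · subst h2; exact base 9 (by omega)
      have := (allFrom_iff _ _ _).1 reaches2 i (by omega) (by omega)
      simp only [okReach, force_eq, gate_eq, Bool.or_eq_true, Bool.and_eq_true] at this
      rcases this with h | h
      · exact absurd (Nat.blt_eq.mp h) (by omega)
      · exact step _ _ (Nat.blt_eq.mp h.1) (Nat.blt_eq.mp h.2.1) (Nat.eq_of_beq_eq_true h.2.2)
  · rw [Subgroup.closure_le]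
    rintro _ ⟨j, hj, rfl⟩
    exact ge_mem hj

theorem central_iff {g : G} (hg : g ∈ LS) :
    (⟨g, hg⟩ : LS) ∈ Subgroup.center LS ↔ ∀ j < 10, Commute g (ge j) := by
  rw [Subgroup.mem_center_iff]
  constructor
  · intro h j hj
    exact (congrArg Subtype.val (h ⟨ge j, ge_mem hj⟩)).symm
  · intro h x
    have hle : LS ≤ Subgroup.centralizer ({g} : Set G) := by
      rw [closure_ge, Subgroup.closure_le]
      rintro _ ⟨j, hj, rfl⟩
      exact Subgroup.mem_centralizer_singleton_iff.2 (h j hj).eq.symm
    exact Subtype.ext (Subgroup.mem_centralizer_singleton_iff.1 (hle x.2))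

/-- The even part of the first class. -/
noncomputable def Npre : Subgroup G := Subgroup.closure {g | ∃ j < 9, g = ge j * ge 0}

theorem Npre_le : Npre ≤ LS := by
  rw [Npre, Subgroup.closure_le]
  rintro _ ⟨j, hj, rfl⟩
  exact mul_mem (ge_mem (by omega)) (ge_mem (by omega))

theorem pair_mem_Npre {a b : Nat} (ha : a < 9) (hb : b < 9) : ge a * ge b ∈ Npre := by
  have e : ge a * ge b = (ge a * ge 0) * (ge b * ge 0)⁻¹ := by
    rw [mul_inv_rev, ge_inv (by omega), ge_inv (by omega)]
    simp only [mul_assoc]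
    rw [← mul_assoc (ge 0) (ge 0), ge_sq (by omega), one_mul]
  rw [e]
  exact mul_mem (Subgroup.subset_closure ⟨a, ha, rfl⟩) (inv_mem (Subgroup.subset_closure ⟨b, hb, rfl⟩))

theorem evenB_spec {w : List Nat} (h : evenB w = true) : (∀ x ∈ w, x < 12) ∧ gw w ∈ Npre := by
  simp only [evenB, Bool.and_eq_true, List.all_eq_true] at h
  obtain ⟨hlen, hl⟩ := h
  have hl' : ∀ x ∈ w, 2 ≤ x ∧ x < 11 := fun x hx => ⟨Nat.ble_eq.mp (hl x hx).1, Nat.blt_eq.mp (hl x hx).2⟩
  refine ⟨fun x hx => (hl' x hx).2.trans (by norm_num), ?_⟩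
  have hname : ∀ x, 2 ≤ x → x < 11 → ∃ a < 9, gw [x] = ge a := fun x h2 h11 => by
    refine ⟨x - 2, by omega, ?_⟩
    rw [ge_eq (x - 2) (by omega), gi, if_neg (by omega), ← node_names (x - 2) (by omega),
      show x - 2 + 2 = x by omega]
  clear hl
  replace hlen := Nat.eq_of_beq_eq_true hlen
  induction w using List.twoStepInduction with
  | nil => rw [gw_nil]; exact one_mem _
  | singleton x => simp at hlen
  | cons_cons x y w ih _ =>
    obtain ⟨a, ha, ea⟩ := hname x (hl' x (by simp)).1 (hl' x (by simp)).2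
    obtain ⟨b, hb, eb⟩ := hname y (hl' y (by simp)).1 (hl' y (by simp)).2
    rw [show x :: y :: w = [x] ++ ([y] ++ w) from rfl, gw_append, gw_append, ea, eb, mul_assoc]
    exact mul_mem (ih (fun z hz => hl' z (by simp [hz])) (by simp only [List.length_cons] at hlen; omega))
      (pair_mem_Npre hb ha)

end Cfsg.Agent.FischerTypes.F24
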