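import Mathlib

/-!
# Two groups generated by sets permuted in the same way

Paired generators give a subgroup of the product; acting the same way on both sets, it identifies the
two groups modulo their centres.
-/

set_option autoImplicit false

namespace Cfsg.Agent.FischerTypes

variable {G₁ G₂ ι : Type*} [Group G₁] [Group G₂] [Finite ι] {f₁ : ι → G₁} {f₂ : ι → G₂}

/-- The pair moves both families alike. -/
def Alike (f₁ : ι → G₁) (f₂ : ι → G₂) (x : G₁ × G₂) : Prop :=
  ∀ i, ∃ k, x.1 * f₁ i * x.1⁻¹ = f₁ k ∧ x.2 * f₂ i * x.2⁻¹ = f₂ k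

/-- The pair of the two values. -/
def both (f₁ : ι → G₁) (f₂ : ι → G₂) (i : ι) : G₁ × G₂ := (f₁ i, f₂ i)

theorem alike_of_closure (h₁ : Function.Injective f₁) {S : Set (G₁ × G₂)}
    (hS : ∀ x ∈ S, Alike f₁ f₂ x) {x : G₁ × G₂} (hx : x ∈ Subgroup.closure S) : Alike f₁ f₂ x := by
  induction hx using Subgroup.closure_induction with
  | mem s hs => exact hS s hs
  | one => exact fun i => ⟨i, by simp, by simp⟩
  | mul a b _ _ ha hb =>
    intro i
    obtain ⟨k, e1, e2⟩ := hb i
    obtain ⟨l, e3, e4⟩ := ha k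
    exact ⟨l, by rw [← e3, ← e1, Prod.fst_mul]; group, by rw [← e4, ← e2, Prod.snd_mul]; group⟩
  | inv a _ ha =>
    choose k e1 e2 using ha
    have hinj : Function.Injective k := fun i j h => h₁ (mul_left_cancel (mul_right_cancel
      ((e1 i).trans ((congrArg f₁ h).trans (e1 j).symm))))
    intro i
    obtain ⟨j, rfl⟩ := Finite.injective_iff_surjective.1 hinj i
    exact ⟨j, by rw [← e1 j, Prod.fst_inv]; group, by rw [← e2 j, Prod.snd_inv]; group⟩

/-- Members are fixed together. -/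
theorem fix_iff (h₁ : Function.Injective f₁) (h₂ : Function.Injective f₂) {x : G₁ × G₂}
    (hx : Alike f₁ f₂ x) (i : ι) : Commute x.1 (f₁ i) ↔ Commute x.2 (f₂ i) := by
  obtain ⟨k, e1, e2⟩ := hx i
  constructor <;> intro h
  · have hk : k = i := h₁ (e1.symm.trans (by rw [h.eq, mul_inv_cancel_right]))
    rw [hk] at e2
    exact eq_mul_of_mul_inv_eq e2
  · have hk : k = i := h₂ (e2.symm.trans (by rw [h.eq, mul_inv_cancel_right]))
    rw [hk] at e1
    exact eq_mul_of_mul_inv_eq e1

theorem mem_center_closure {G : Type*} [Group G] {s : Set G} {g : Subgroup.closure s} :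
    g ∈ Subgroup.center (Subgroup.closure s) ↔ ∀ e ∈ s, Commute (g : G) e := by
  rw [Subgroup.mem_center_iff]
  constructor
  · intro h e he
    exact (congrArg Subtype.val (h ⟨e, Subgroup.subset_closure he⟩)).symm
  · intro h x
    have hle : Subgroup.closure s ≤ Subgroup.centralizer ({(g : G)} : Set G) := by
      rw [Subgroup.closure_le]
      exact fun e he => Subgroup.mem_centralizer_singleton_iff.2 (h e he).eq.symm
    exact Subtype.ext (Subgroup.mem_centralizer_singleton_iff.1 (hle x.2))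

/-- What is reached from the listed indices by conjugations of listed ones. -/
inductive Reached (f₁ : ι → G₁) (f₂ : ι → G₂) (J : Set ι) : ι → Prop
  | base {j} : j ∈ J → Reached f₁ f₂ J j
  | step {i j k} : j ∈ J → Reached f₁ f₂ J i → f₁ j * f₁ i * (f₁ j)⁻¹ = f₁ k →
      f₂ j * f₂ i * (f₂ j)⁻¹ = f₂ k → Reached f₁ f₂ J k

theorem mem_pairs_of_reached {J : Set ι} {i : ι} (h : Reached f₁ f₂ J i) :
    both f₁ f₂ i ∈ Subgroup.closure (both f₁ f₂ '' J) := by
  induction h with
  | base hj => exact Subgroup.subset_closure ⟨_, hj, rfl⟩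
  | @step i j k hj _ e1 e2 ih =>
    have hj' : both f₁ f₂ j ∈ Subgroup.closure (both f₁ f₂ '' J) :=
      Subgroup.subset_closure ⟨j, hj, rfl⟩
    rw [show both f₁ f₂ k = both f₁ f₂ j * both f₁ f₂ i * (both f₁ f₂ j)⁻¹ from
      Prod.ext e1.symm e2.symm]
    exact mul_mem (mul_mem hj' ih) (inv_mem hj')

theorem map_pairs_fst {J : Set ι} (hreach : ∀ i, Reached f₁ f₂ J i) :
    (Subgroup.closure (both f₁ f₂ '' J)).map (MonoidHom.fst G₁ G₂) =
      Subgroup.closure (Set.range f₁) := by
  refine le_antisymm ?_ ?_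
  · rw [MonoidHom.map_closure, Subgroup.closure_le]
    rintro _ ⟨_, ⟨j, _, rfl⟩, rfl⟩
    exact Subgroup.subset_closure ⟨j, rfl⟩
  · rw [Subgroup.closure_le]
    rintro _ ⟨i, rfl⟩
    exact ⟨_, mem_pairs_of_reached (hreach i), rfl⟩

theorem map_pairs_snd {J : Set ι} (hreach : ∀ i, Reached f₁ f₂ J i) :
    (Subgroup.closure (both f₁ f₂ '' J)).map (MonoidHom.snd G₁ G₂) =
      Subgroup.closure (Set.range f₂) := by
  refine le_antisymm ?_ ?_
  · rw [MonoidHom.map_closure, Subgroup.closure_le]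
    rintro _ ⟨_, ⟨j, _, rfl⟩, rfl⟩
    exact Subgroup.subset_closure ⟨j, rfl⟩
  · rw [Subgroup.closure_le]
    rintro _ ⟨i, rfl⟩
    exact ⟨_, mem_pairs_of_reached (hreach i), rfl⟩

/-- Two maps onto groups with the same kernel identify the groups. -/
theorem nonempty_equiv_of_ker {P A B : Type*} [Group P] [Group A] [Group B] (φ : P →* A)
    (ψ : P →* B) (hφ : Function.Surjective φ) (hψ : Function.Surjective ψ) (h : φ.ker = ψ.ker) :
    Nonempty (A ≃* B) :=
  ⟨(QuotientGroup.quotientKerEquivOfSurjective φ hφ).symm.trans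
    ((QuotientGroup.quotientMulEquivOfEq h).trans
      (QuotientGroup.quotientKerEquivOfSurjective ψ hψ))⟩

/-- The groups modulo their centres are isomorphic. -/
theorem quot_center_iso (h₁ : Function.Injective f₁) (h₂ : Function.Injective f₂) (J : Set ι)
    (hJ : ∀ j ∈ J, Alike f₁ f₂ (both f₁ f₂ j)) (hreach : ∀ i, Reached f₁ f₂ J i) :
    Nonempty ((Subgroup.closure (Set.range f₁) ⧸ Subgroup.center (Subgroup.closure (Set.range f₁))) ≃*
      (Subgroup.closure (Set.range f₂) ⧸ Subgroup.center (Subgroup.closure (Set.range f₂)))) := by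
  let P := Subgroup.closure (both f₁ f₂ '' J)
  have hP : ∀ x ∈ P, Alike f₁ f₂ x := fun x hx =>
    alike_of_closure h₁ (by rintro _ ⟨j, hj, rfl⟩; exact hJ j hj) hx
  let p₁ : P →* Subgroup.closure (Set.range f₁) :=
    ((MonoidHom.fst G₁ G₂).comp P.subtype).codRestrict _ fun x =>
      map_pairs_fst hreach ▸ ⟨x.1, x.2, rfl⟩
  let p₂ : P →* Subgroup.closure (Set.range f₂) :=
    ((MonoidHom.snd G₁ G₂).comp P.subtype).codRestrict _ fun x =>
      map_pairs_snd hreach ▸ ⟨x.1, x.2, rfl⟩
  have s₁ : Function.Surjective p₁ := by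
    rintro ⟨a, ha⟩
    rw [← map_pairs_fst hreach] at ha
    obtain ⟨x, hx, rfl⟩ := ha
    exact ⟨⟨x, hx⟩, rfl⟩
  have s₂ : Function.Surjective p₂ := by
    rintro ⟨a, ha⟩
    rw [← map_pairs_snd hreach] at ha
    obtain ⟨x, hx, rfl⟩ := ha
    exact ⟨⟨x, hx⟩, rfl⟩
  refine nonempty_equiv_of_ker ((QuotientGroup.mk' _).comp p₁) ((QuotientGroup.mk' _).comp p₂)
    ((QuotientGroup.mk'_surjective _).comp s₁) ((QuotientGroup.mk'_surjective _).comp s₂) ?_
  ext x
  simp only [MonoidHom.mem_ker, MonoidHom.comp_apply, QuotientGroup.mk'_apply,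
    QuotientGroup.eq_one_iff, mem_center_closure, Set.forall_mem_range]
  exact forall_congr' fun i => fix_iff h₁ h₂ (hP x x.2) i

end Cfsg.Agent.FischerTypes
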