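import Cfsg.Agent.Fi22Trans.Class

/-!
# The transpositions of Fi22 by their points
-/

set_option autoImplicit false
set_option maxRecDepth 100000

namespace Cfsg.Agent.FischerTypes.F22

open Cfsg.Agent.CosetCert Cfsg.Agent.CosetCert.Fi22U62

/-- The group. -/
abbrev G : Type := Fi22Trans.G

/-- The transposition. -/
abbrev t : G := Fi22Trans.t

/-- The action on the points. -/
noncomputable def φ : G →* Equiv.Perm (Fin data.n) := (Data.enumeration valid spells).choose

/-- The points as cosets. -/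
noncomputable def π : Fin data.n ≃ G ⧸ Fi22Trans.H :=
  (Data.enumeration valid spells).choose_spec.choose

theorem π_φ (g : G) (c : Fin data.n) : π (φ g c) = g • π c :=
  (Data.enumeration valid spells).choose_spec.choose_spec.1 g c

theorem hfwd (l : List (Cfsg.Spor.Fi22.Gen × Bool)) (c : Fin data.n) :
    (((φ (Fi22Trans.el l))⁻¹ c : Fin data.n) : Nat) = data.fwd (Fi22Trans.codes l) c :=
  (Data.enumeration valid spells).choose_spec.choose_spec.2 l c

theorem φ_injective : Function.Injective φ :=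
  (Data.order_eq valid spells φ hfwd Fi22Order.card_bound.1 Fi22Order.card_bound.2
    Fi22Order.levels Fi22Order.levels_ok (by decide +kernel)).1

/-- A generator by its number. -/
def gen (x : Nat) : G := Fi22Trans.el [dec x]

/-- The element moving a point as the word does. -/
def gw : List Nat → G
  | [] => 1
  | x :: w => gw w * gen x

theorem gen_mul_self {x : Nat} (hx : x < 9) : gen x * gen x = 1 := by
  have h := spells.inv_letter x hx
  rw [show data.iv x = x from rfl] at h
  exact h

theorem gen_inv {x : Nat} (hx : x < 9) : (gen x)⁻¹ = gen x :=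
  inv_eq_of_mul_eq_one_left (gen_mul_self hx)

theorem gw_append (u v : List Nat) : gw (u ++ v) = gw v * gw u := by
  induction u with
  | nil => simp [gw]
  | cons x u ih => simp [gw, ih, mul_assoc]

theorem gw_reverse : ∀ {w : List Nat}, (∀ x ∈ w, x < 9) → gw w.reverse = (gw w)⁻¹
  | [], _ => by simp [gw]
  | x :: w, h => by
    rw [List.reverse_cons, gw_append, gw_reverse fun y hy => h y (List.mem_cons_of_mem _ hy)]
    simp [gw, gen_inv (h x (List.mem_cons_self ..))]

theorem dec_code : ∀ x, x < 9 → Fi22Trans.codes [dec x] = [x] := by decide +kernel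

theorem φ_gen {x : Nat} (hx : x < 9) (c : Fin data.n) :
    ((φ (gen x) c : Fin data.n) : Nat) = data.fwd [x] c := by
  have h := hfwd [dec x] c
  rw [dec_code x hx, ← map_inv] at h
  rw [← h, show Fi22Trans.el [dec x] = gen x from rfl, gen_inv hx]

theorem φ_gw : ∀ {w : List Nat}, (∀ x ∈ w, x < 9) → ∀ c : Fin data.n,
    ((φ (gw w) c : Fin data.n) : Nat) = data.fwd w c
  | [], _, c => by simp [gw, Data.fwd_nil]
  | x :: w, h, c => by
    rw [gw, map_mul, Equiv.Perm.mul_apply, φ_gw (fun y hy => h y (List.mem_cons_of_mem _ hy)),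
      φ_gen (h x (List.mem_cons_self ..)), Data.fwd_cons, Data.fwd_cons, Data.fwd_nil]

/-- The base point. -/
def c0 : Fin data.n := ⟨0, valid.n_pos⟩

theorem fix_iff (g : G) : φ g c0 = c0 ↔ Commute g t := by
  show _ ↔ g * t = t * g
  rw [← Subgroup.mem_centralizer_singleton_iff (k := g), Fi22Trans.centralizer_eq]
  exact Data.apply_base_iff valid spells φ π π_φ hfwd g

theorem transitive (c : Fin data.n) : ∃ g, φ g c0 = c := by
  obtain ⟨g, hg⟩ := MulAction.exists_smul_eq G (π c0) (π c)
  exact ⟨g, π.injective ((π_φ g c0).trans hg)⟩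

/-- An element taking the base point to a point. -/
noncomputable def tr (c : Fin data.n) : G := (transitive c).choose

theorem φ_tr (c : Fin data.n) : φ (tr c) c0 = c := (transitive c).choose_spec

/-- The transposition of a point. -/
noncomputable def tau (c : Nat) : G :=
  if h : c < data.n then tr ⟨c, h⟩ * t * (tr ⟨c, h⟩)⁻¹ else 1

theorem conj_t (g : G) : g * t * g⁻¹ = tau (φ g c0 : Fin data.n) := by
  rw [tau, dif_pos (φ g c0).2]
  have hh := φ_tr ⟨(φ g c0 : Fin data.n), (φ g c0).2⟩
  generalize tr ⟨(φ g c0 : Fin data.n), (φ g c0).2⟩ = k at hh ⊢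
  have hcomm : Commute (k⁻¹ * g) t := (fix_iff _).1 (by
    rw [map_mul, map_inv, Equiv.Perm.mul_apply, Equiv.Perm.inv_eq_iff_eq]
    exact (hh.trans (Fin.ext rfl)).symm)
  calc g * t * g⁻¹ = k * ((k⁻¹ * g) * t) * g⁻¹ := by group
    _ = k * (t * (k⁻¹ * g)) * g⁻¹ := by rw [hcomm.eq]
    _ = k * t * k⁻¹ := by group

variable {c d : Nat}

theorem conj_tau (g : G) (hc : c < 3510) :
    g * tau c * g⁻¹ = tau (φ g ⟨c, hc⟩ : Fin data.n) := by
  obtain ⟨k, hk⟩ := transitive ⟨c, hc⟩
  have e := conj_t k
  rw [hk] at e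
  rw [← e, ← hk, ← Equiv.Perm.mul_apply, ← map_mul, ← conj_t]
  group

theorem conj_gw {w : List Nat} (hw : ∀ x ∈ w, x < 9) (hc : c < 3510) :
    gw w * tau c * (gw w)⁻¹ = tau (data.fwd w c) := by
  rw [conj_tau _ hc, φ_gw hw]

theorem tau_inj (hc : c < 3510) (hd : d < 3510) (h : tau c = tau d) : c = d := by
  obtain ⟨k, hk⟩ := transitive ⟨c, hc⟩
  obtain ⟨l, hl⟩ := transitive ⟨d, hd⟩
  have e1 := conj_t k
  have e2 := conj_t l
  rw [hk] at e1
  rw [hl] at e2
  have h1 : Commute (l⁻¹ * k) t := by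
    show l⁻¹ * k * t = t * (l⁻¹ * k)
    calc l⁻¹ * k * t = l⁻¹ * (k * t * k⁻¹) * k := by group
      _ = l⁻¹ * (l * t * l⁻¹) * k := by rw [e1, e2, h]
      _ = t * (l⁻¹ * k) := by group
  have h2 := (fix_iff _).2 h1
  rw [map_mul, map_inv, Equiv.Perm.mul_apply, Equiv.Perm.inv_eq_iff_eq, hk, hl] at h2
  exact congrArg Fin.val h2

theorem tau_zero : tau 0 = t := by
  have h := conj_t 1
  rw [map_one, Equiv.Perm.one_apply, one_mul, inv_one, mul_one] at h
  exact h.symm

theorem exists_tau {g : G} (hg : g ∈ conjugatesOf t) : ∃ c, c < 3510 ∧ tau c = g := by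
  obtain ⟨u, rfl⟩ := isConj_iff.1 hg
  exact ⟨_, (φ u c0).2, (conj_t u).symm⟩

theorem tau_mem (hc : c < 3510) : tau c ∈ conjugatesOf t := by
  obtain ⟨k, hk⟩ := transitive ⟨c, hc⟩
  have e := conj_t k
  rw [hk] at e
  exact isConj_iff.2 ⟨k, e⟩

/-- A word names the transposition of the end of the path. -/
noncomputable def nameB (path w : List Nat) (c : Nat) : Bool :=
  Nat.beq (data.fwd w c) (data.fwd (path.reverse ++ (0 :: path)) c)

theorem eq_of_name {path w : List Nat} (hp : ∀ x ∈ path, x < 9) (hw : ∀ x ∈ w, x < 9)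
    (h : allFrom (nameB path w) 0 3510 = true) : gw w = tau (data.fwd path 0) := by
  have h0 := conj_gw hp (c := 0) (by decide)
  rw [tau_zero] at h0
  rw [← h0]
  apply φ_injective
  ext c
  have hc := (allFrom_iff _ _ _).1 h c (Nat.zero_le _) (by rw [Nat.zero_add]; exact c.2)
  have hall : ∀ x ∈ path.reverse ++ (0 :: path), x < 9 := by
    intro x hx
    simp only [List.mem_append, List.mem_reverse, List.mem_cons] at hx
    rcases hx with h | rfl | h
    exacts [hp x h, by decide, hp x h]
  rw [φ_gw hw, Nat.eq_of_beq_eq_true hc, ← φ_gw hall, gw_append,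
    show gw (0 :: path) = gw path * gen 0 from rfl, gw_reverse hp]
  rfl

end Cfsg.Agent.FischerTypes.F22
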