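import Cfsg.Agent.Fi24Out.Tau

/-!
# The transpositions of Fi24 by the numbers of their points
-/

set_option autoImplicit false
set_option maxRecDepth 100000

namespace Cfsg.Agent.FischerTypes.F24

open Cfsg.Agent.CosetCert Cfsg.Agent.Fi24 Cfsg.Agent.Fi24Out

/-- The group. -/
abbrev G : Type := Cfsg.Agent.Fi24.G

/-- The transposition of a point. -/
noncomputable def tau (c : Nat) : G := if h : c < 306936 then tau24 ⟨c, h⟩ else 1

/-- The element moving a point as the word does. -/
noncomputable def gw (w : List Nat) : G := el w.reverse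

variable {c d : Nat} {w : List Nat}

theorem tau_fin (c : Fin 306936) : tau c = tau24 c := by rw [tau, dif_pos c.2]

theorem gw_append (u v : List Nat) : gw (u ++ v) = gw v * gw u := by
  rw [gw, List.reverse_append, el_append]; rfl

theorem gw_nil : gw [] = 1 := el_nil

theorem gw_single {x : Nat} (hx : x < 12) : gw [x] = Cfsg.Agent.Fi24.gen (Fi24Index.dec x).1 := el_single hx

theorem gw_inv (hw : ∀ x ∈ w, x < 12) : gw w.reverse = (gw w)⁻¹ := by
  rw [gw, gw, el_reverse fun x hx => hw x (List.mem_reverse.1 hx)]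

theorem φ_gw (hw : ∀ x ∈ w, x < 12) (c : Fin 306936) :
    ((φ (gw w) c : Fin 306936) : Nat) = Fi24Index.data.fwd w c := by
  rw [gw, φ_apply _ (fun x hx => hw x (List.mem_reverse.1 hx)), List.reverse_reverse]

theorem fwd_lt (hw : ∀ x ∈ w, x < 12) (hc : c < 306936) : Fi24Index.data.fwd w c < 306936 := by
  rw [← φ_gw hw ⟨c, hc⟩]; exact (φ (gw w) _).2

theorem conj_gw (hw : ∀ x ∈ w, x < 12) (hc : c < 306936) :
    gw w * tau c * (gw w)⁻¹ = tau (Fi24Index.data.fwd w c) := by
  rw [← φ_gw hw ⟨c, hc⟩, tau_fin, ← conj_tau24, ← tau_fin]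

theorem tau_zero : tau 0 = L := (tau_fin c0).trans tau24_c0

theorem tau_inj (hc : c < 306936) (hd : d < 306936) (h : tau c = tau d) : c = d := by
  rw [tau, dif_pos hc, tau, dif_pos hd] at h
  exact congrArg Fin.val (tau24_inj h)

theorem tau_mem (hc : c < 306936) : tau c ∈ Fi24.D := by
  obtain ⟨g, hg⟩ := Fi24.transitive ⟨c, hc⟩
  rw [tau, dif_pos hc, ← hg, ← conj_tau24, tau24_c0]
  exact mem_D.2 ⟨g, rfl⟩

theorem exists_tau {g : G} (hg : g ∈ Fi24.D) : ∃ c, c < 306936 ∧ tau c = g := by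
  obtain ⟨c, rfl⟩ := exists_tau24 hg
  exact ⟨c, c.2, tau_fin c⟩

theorem tau_fwd (hw : ∀ x ∈ w, x < 12) :
    tau (Fi24Index.data.fwd w 0) = gw w * L * (gw w)⁻¹ := by
  rw [← conj_gw hw (by norm_num), tau_zero]

/-- Across an edge of the diagram. -/
theorem name_step {x y : Nat} (hx : x < 12) (hy : y < 12)
    (h : Cfsg.Spor.coxLabel Cfsg.Spor.Fi24.edges (Fi24Index.dec x).1 (Fi24Index.dec y).1 = 3)
    (hc : c < 306936) (hn : gw [x] = tau c) : gw [y] = tau (Fi24Index.data.fwd [y, x] c) := by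
  have hl : ∀ z ∈ [y, x], z < 12 := by simp [hx, hy]
  rw [← conj_gw hl hc, ← hn, show [y, x] = [y] ++ [x] from rfl, gw_append, gw_single hx, gw_single hy]
  exact conj_step h

theorem commute_gw (hw : ∀ x ∈ w, x < 12) (hc : c < 306936) :
    Commute (gw w) (tau c) ↔ Fi24Index.data.fwd w c = c := by
  have e := conj_gw hw hc
  constructor
  · intro h
    rw [h.eq, mul_inv_cancel_right] at e
    exact (tau_inj hc (fwd_lt hw hc) e).symm
  · intro h
    rw [h] at e
    exact eq_mul_of_mul_inv_eq e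

theorem center_bot : Subgroup.center G = ⊥ := by
  rw [eq_bot_iff]
  intro g hg
  rw [Subgroup.mem_bot]
  refine φ_injective (Equiv.ext fun c => ?_)
  rw [map_one, Equiv.Perm.one_apply]
  exact commute_tau24.1 (Subgroup.mem_center_iff.1 hg (tau24 c)).symm

end Cfsg.Agent.FischerTypes.F24
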